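import Cfsg.Agent.PushGen.Cf

/-!
# The Baumann blocks satisfy the hypotheses of the pushing up theorem

`BauK` (natural `SL₂(q)`-summands) and `BauS` (symmetric groups, `q = 2`).

(helper54, for S1823.)
-/

set_option autoImplicit false
set_option linter.unusedSectionVars false

namespace Cfsg.Agent.PushGen

open Subgroup Cfsg Cfsg.Agent.PLocal.ThompsonJ Cfsg.Agent.ZN Cfsg.Agent.ZN.ChoiceBase
open Cfsg.Agent.ZN.ChoiceSit
open scoped commutatorElement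

universe u

variable {G : Type u} [Group G]

/-! ### natural modules -/

section nat

open Cfsg.Agent.Omega.SQ1 (relIndex_eq_of_card)
open Cfsg.Agent.Omega.SQ1.BauK
open Cfsg.Agent.Omega.SQ1.BauK.InK (St VL QL mem_QL mem_St comm_iff not_QL V1V)
open Cfsg.Agent.Omega.SQ1.BauK.BlkK (DK)
open Cfsg.Agent.Omega.SQ1.Bau (elem_comm elem_sq Mv mv_inv)

variable {H T Q V V0 L : Subgroup G} {ι : Type} {N E : ι → Subgroup G} {q : ℕ} {i : ι}

/-- `b ∈ B` moves a vector of a moved line out of `V0`. -/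
theorem line_V0 (h : InK H T Q V V0 N E q) [Finite G] {g b c : G} (hg : g ∈ St H (N i))
    (hm : Mv (V1 T V ⊓ N i) g) (hb : b ∈ bau T) (hbQ : b ∉ QL T (N i)) (hc : c ∈ V1 T V ⊓ N i)
    (h0 : b * (g * c * g⁻¹) * b⁻¹ * (g * c * g⁻¹)⁻¹ ∈ V0) : c ∈ V0 := by
  have hgH := hg.1
  have h1 := h.bau_moves (inv_mem hg) (mv_inv.2 hm) hb hbQ
  rw [inv_inv] at h1
  have hS : g⁻¹ * b * g ∈ St H (N i) :=
    mul_mem (mul_mem (inv_mem hg) ⟨h.TH (bau_le T hb), h.bau_norm_N i hb⟩) hg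
  have h2 := h.V0n g⁻¹ (inv_mem hgH) _ h0
  have e : g⁻¹ * (b * (g * c * g⁻¹) * b⁻¹ * (g * c * g⁻¹)⁻¹) * g⁻¹⁻¹ =
    (g⁻¹ * b * g) * c * (g⁻¹ * b * g)⁻¹ * c⁻¹ := by group
  rw [e] at h2
  have h3 : (g⁻¹ * b * g) * c * (g⁻¹ * b * g)⁻¹ ∈ V1 T V ⊓ N i := by
    have := mul_mem (h.V0V1 i h2) hc
    rwa [inv_mul_cancel_right] at this
  have h4 := (h.pl i).opp _ hS h1 c hc h3
  have h5 := mul_mem (inv_mem h2) h4
  have e2 : ((g⁻¹ * b * g) * c * (g⁻¹ * b * g)⁻¹ * c⁻¹)⁻¹ * ((g⁻¹ * b * g) * c * (g⁻¹ * b * g)⁻¹) = c := by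
    group
  rwa [e2] at h5

/-- **`[b, n] ∉ V0` for `b ∈ B - Q_L`, `n ∈ N i - V1`.** -/
theorem comm_V0 (h : InK H T Q V V0 N E q) [Finite G] {b n : G} (hb : b ∈ bau T)
    (hbQ : b ∉ QL T (N i)) (hn : n ∈ N i) (hn1 : n ∉ V1 T V) : b * n * b⁻¹ * n⁻¹ ∉ V0 := by
  intro h0
  obtain ⟨g, hg, hgN, hm⟩ := h.ne i
  have hgS : g ∈ St H (N i) := mem_St.2 ⟨hg, hgN⟩
  obtain ⟨a, ha, c, hc, hnac⟩ := (h.pl i).split hgS hm hn
  set m := g * c * g⁻¹ with hmd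
  have hmN : m ∈ N i := (h.pl i).Wn g hgS c hc.2
  have hV0W : V0 ≤ V1 T V ⊓ N i := h.V0V1 i
  have hcV0 : c ∉ V0 := by
    intro hc0
    apply hn1
    rw [hnac]
    exact mul_mem ha.1 (hV0W (h.V0n g hg c hc0)).1
  -- the map `b ↦ [b, m] V0`
  have hcm : ∀ b ∈ bau T, b * m * b⁻¹ * m⁻¹ ∈ V1 T V ⊓ N i := fun b hb => h.bau_quad hb hmN
  have hmul : ∀ b ∈ bau T, ∀ b' ∈ bau T,
      b * b' * m * (b * b')⁻¹ * m⁻¹ = (b' * m * b'⁻¹ * m⁻¹) * (b * m * b⁻¹ * m⁻¹) := by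
    intro b hb b' hb'
    have h1 := h.bau_V1 hb (hcm b' hb').1
    have e : b * b' * m * (b * b')⁻¹ * m⁻¹ =
      (b * (b' * m * b'⁻¹ * m⁻¹) * b⁻¹) * (b * m * b⁻¹ * m⁻¹) := by group
    rw [e, h1]; group
  let f : bau T → G ⧸ V0 := fun b => ((b : G) * m * (b : G)⁻¹ * m⁻¹ : G)
  let f1 : ↥(V1 T V ⊓ N i) → G ⧸ V0 := fun w => ((w : G) : G ⧸ V0)
  have c1 : Nat.card (Set.range f) = (QL T (N i)).relIndex (bau T) := by
    apply card_range f
    rintro ⟨b, hb⟩ ⟨b', hb'⟩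
    show ((b * m * b⁻¹ * m⁻¹ : G) : G ⧸ V0) = ((b' * m * b'⁻¹ * m⁻¹ : G) : G ⧸ V0) ↔
      b⁻¹ * b' ∈ QL T (N i)
    rw [QuotientGroup.eq]
    have hbb : b⁻¹ * b' ∈ bau T := mul_mem (inv_mem hb) hb'
    have e1 : b⁻¹ * b' * m * (b⁻¹ * b')⁻¹ * m⁻¹ = (b * m * b⁻¹ * m⁻¹)⁻¹ * (b' * m * b'⁻¹ * m⁻¹) := by
      have h1 := hmul b hb _ hbb
      rw [mul_inv_cancel_left] at h1
      have hx := hcm b hb
      have hy := hcm _ hbb
      have h2 := h.Vcomm _ (V1V hy.1) _ (V1V hx.1)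
      rw [h1, h2, inv_mul_cancel_left]
    rw [← e1]
    constructor
    · intro h1
      by_contra hq
      exact hcV0 (line_V0 h hgS hm hbb hq hc h1)
    · intro h1
      rw [(mem_QL.1 h1).2 m hmN]
      have : m * (b⁻¹ * b') * (b⁻¹ * b')⁻¹ * m⁻¹ = 1 := by group
      rw [this]; exact one_mem _
  have c2 : Nat.card (Set.range f1) = V0.relIndex (V1 T V ⊓ N i) := by
    apply card_range f1
    rintro w w'
    exact QuotientGroup.eq
  have c3 : Set.range f = Set.range f1 := by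
    apply Set.eq_of_subset_of_ncard_le
    · rintro _ ⟨b, rfl⟩
      exact ⟨⟨_, hcm b b.2⟩, rfl⟩
    · show Nat.card (Set.range f1) ≤ Nat.card (Set.range f)
      rw [c1, c2, relIndex_eq_of_card (K := QL T (N i)) inf_le_left (h.card_bau i),
        relIndex_eq_of_card hV0W (h.card0 i)]
    · exact Set.finite_range f1
  have h1 : ((a : G) : G ⧸ V0) ∈ Set.range f := by
    rw [c3]; exact ⟨⟨a, ha⟩, rfl⟩
  obtain ⟨⟨b', hb'⟩, hba⟩ := h1
  have hba' : (b' * m * b'⁻¹ * m⁻¹)⁻¹ * a ∈ V0 := QuotientGroup.eq.1 hba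
  -- `n` lies in the line of `b' g`
  have hb'S : b' ∈ St H (N i) := ⟨h.TH (bau_le T hb'), h.bau_norm_N i hb'⟩
  have hzV0 : (b' * m * b'⁻¹ * m⁻¹)⁻¹ * a ∈ V0 := hba'
  set z := (b' * m * b'⁻¹ * m⁻¹)⁻¹ * a with hz
  have hzV : z ∈ V := (hV0W hzV0).1.1
  have hmV : m ∈ V := h.NV i hmN
  have hbm : b' * m * b'⁻¹ ∈ V := h.Vn b' hb'S.1 m hmV
  have hn2 : n = (b' * m * b'⁻¹) * z := by
    have e1 : a = (b' * m * b'⁻¹ * m⁻¹) * z := by rw [hz]; group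
    rw [hnac, e1]
    have h2 := h.Vcomm z hzV m hmV
    calc b' * m * b'⁻¹ * m⁻¹ * z * m = b' * m * b'⁻¹ * m⁻¹ * (z * m) := by group
      _ = b' * m * b'⁻¹ * m⁻¹ * (m * z) := by rw [h2]
      _ = _ := by group
  have hgb : b' * g ∈ St H (N i) := mul_mem hb'S hgS
  have hmgb : Mv (V1 T V ⊓ N i) (b' * g) := by
    obtain ⟨v, hv, hv'⟩ := hm
    refine ⟨v, hv, fun h1 => hv' ?_⟩
    have h2 : b' * (g * v * g⁻¹) * b'⁻¹ ∈ V1 T V ⊓ N i := by
      have e : b' * g * v * (b' * g)⁻¹ = b' * (g * v * g⁻¹) * b'⁻¹ := by group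
      rwa [e] at h1
    have h3 : g * v * g⁻¹ = b'⁻¹ * (b' * (g * v * g⁻¹) * b'⁻¹) * b' := by group
    have h4 := h.bau_V1 (inv_mem hb') h2.1
    rw [h3, h4]
    have h5 : b' * (g * v * g⁻¹) * b'⁻¹ * b'⁻¹ * b' = b' * (g * v * g⁻¹) * b'⁻¹ := by group
    rwa [h5]
  apply hcV0
  refine line_V0 h hgb hmgb hb hbQ hc ?_
  have e1 : b' * g * c * (b' * g)⁻¹ = b' * m * b'⁻¹ := by rw [hmd]; group
  rw [e1]
  have e2 : b' * m * b'⁻¹ = n * z⁻¹ := by rw [hn2]; group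
  rw [e2]
  have hbz := h.bau_V1 hb (inv_mem (hV0W hzV0).1)
  have e3 : b * (n * z⁻¹) * b⁻¹ * (n * z⁻¹)⁻¹ = b * n * (z⁻¹ * b⁻¹) * z * n⁻¹ := by group
  have e4 : z⁻¹ * b⁻¹ = b⁻¹ * z⁻¹ := by
    have := h.bau_V1 (inv_mem hb) (inv_mem (hV0W hzV0).1)
    exact this.symm
  rw [e3, e4]
  have e5 : b * n * (b⁻¹ * z⁻¹) * z * n⁻¹ = b * n * b⁻¹ * n⁻¹ := by group
  rwa [e5]

/-- The pushing up data for a natural summand. -/
theorem datK (k : BlkK H T V N i L) (h : InK H T Q V V0 N E q) [Finite G] {A : Subgroup G}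
    (hTA : T ≤ A) (hAT : A ≤ normalizer (T : Set G))
    (hcore : ∀ R : Subgroup G, R ≤ T → (∀ x ∈ H, ∀ r ∈ R, x * r * x⁻¹ ∈ R) →
      (∀ a ∈ A, ∀ r ∈ R, a * r * a⁻¹ ∈ R) → R = ⊥) :
    Dt A L (bau T) (QL T (N i)) (VL T (N i)) (zj T) (DK T (N i)) where
  BA := (bau_le T).trans hTA
  BL := k.BL
  QB := inf_le_left
  VQ := h.VL_le_QL i
  ZV := le_sup_left
  DZ := BlkK.D_le_Z h i
  AnB a ha b hb := Cfsg.Agent.Omega.SQ1.Bau.In.norm_bau hAT ha hb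
  AnZ a ha b hb := Cfsg.Agent.Omega.SQ1.Bau.In.norm_zj hAT ha hb
  LnQ := k.QL_norm h
  LnV := k.VL_norm h
  BcZ b hb y hy := ((mem_bau.1 hb).2 y hy).symm
  Vsq v hv := by have := elem_sq (h.VL_elem i) v hv; rwa [pow_two] at this
  QcV b hb hc := h.mem_QL_iff.2 ⟨hb, hc⟩
  VcQ x hx v hv := (h.mem_QL_iff.1 hx).2 v hv
  Bsq b hb := h.bau_sq hb
  comm v hv b hb := commutator_mem_commutator hv hb
  Dgen := by
    rw [DK, commutator_le]
    exact fun v hv b hb => subset_closure ⟨v, hv, b, hb, rfl⟩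
  ncomm v hv hvZ b hb hbQ hc := hvZ (h.cent_VL hb hbQ hv hc.symm)
  card := by
    rw [relIndex_eq_of_card (K := QL T (N i)) inf_le_left (h.card_bau i),
      relIndex_eq_of_card (K := zj T) (L := VL T (N i)) le_sup_left (h.card_VL i)]
  gen l hl hm K hK hx := k.gen h hl ((k.mv_iff' h hl).1 hm) hK hx
  moves := by
    obtain ⟨l, hl, hm⟩ := k.mv
    exact ⟨l, hl, (k.mv_iff' h hl).2 hm⟩
  mvinv l hl hm := (k.mv_iff' h (inv_mem hl)).2 (mv_inv.2 ((k.mv_iff' h hl).1 hm))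
  ti l hl hm b hb hbQ := by
    have h1 := h.bau_moves (k.LS h (inv_mem hl)) (mv_inv.2 ((k.mv_iff' h hl).1 hm)) hb hbQ
    rw [inv_inv] at h1
    exact (k.mv_iff' h (mul_mem (mul_mem (inv_mem hl) (k.BL hb)) hl)).2 h1
  core R hR hL hA := k.core h hTA hcore (hR.trans (bau_le T)) hL hA

theorem exK (k : BlkK H T V N i L) (h : InK H T Q V V0 N E q) [Finite G] :
    Ex L (bau T) (QL T (N i)) (VL T (N i)) (zj T) := by
  intro v hv hvZ b hb hbQ
  by_contra hcon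
  push Not at hcon
  obtain ⟨z, hz, n, hn, rfl⟩ := h.mem_VL hv
  have hn1 : n ∉ V1 T V := fun h1 => hvZ (mul_mem hz (h.V1_le_Z h1))
  -- the commutator
  have e : z * n * b * (z * n)⁻¹ * b⁻¹ = (b * n * b⁻¹ * n⁻¹)⁻¹ := by
    have e1 : z * b = b * z := (mem_bau.1 hb).2 z hz
    have e2 : z * n = n * z := h.ZcN i z hz n hn
    calc z * n * b * (z * n)⁻¹ * b⁻¹ = (z * (n * b * n⁻¹)) * z⁻¹ * b⁻¹ := by group
      _ = ((n * b * n⁻¹) * z) * z⁻¹ * b⁻¹ := by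
        rw [show z * (n * b * n⁻¹) = (n * b * n⁻¹) * z from
          ((show Commute z n from e2).mul_right (show Commute z b from e1)).mul_right
            (show Commute z n from e2).inv_right]
      _ = _ := by group
  rw [e] at hcon
  have hq := h.bau_quad (i := i) hb hn
  obtain ⟨l, hl, hm⟩ := k.mv
  have h1 : l * (b * n * b⁻¹ * n⁻¹)⁻¹ * l⁻¹ = (b * n * b⁻¹ * n⁻¹)⁻¹ := hcon l hl
  have h2 := (h.pl i).opp l (k.LS h hl) hm _ (inv_mem hq) (by rw [h1]; exact inv_mem hq)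
  rw [h1] at h2
  have h3 := inv_mem h2
  rw [inv_inv] at h3
  exact comm_V0 h hb hbQ hn hn1 h3

end nat

/-! ### symmetric groups, `q = 2` -/

section sym

open Cfsg.Agent.Omega.SQ1.BauS
open Cfsg.Agent.Omega.SQ1.BauS.Blk
open Cfsg.Agent.Omega.SQ1.Bau (elem_comm elem_sq)

variable {H T Q V L : Subgroup G} {ι : Type} {N : ι → Subgroup G} {d t r : ι → G} {i : ι}

/-- The commutator of `v ∈ V_L` and `b ∈ B` lies in `⟨d⟩`. -/
theorem commS (h : In H T Q V N d t r) [Finite G] {v b : G} (hv : v ∈ VV T N i) (hb : b ∈ bau T) :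
    v * b * v⁻¹ * b⁻¹ ∈ zpowers (d i) := by
  obtain ⟨z, hz, n, hn, rfl⟩ := mem_VV h hv
  have e1 : z * b = b * z := (mem_bau.1 hb).2 z hz
  have hnV := h.NV i hn
  have hbn : b * n * b⁻¹ * n⁻¹ ∈ zpowers (d i) := by
    rcases (h.EE_good (h.bau_EE hb)).actN i with h1 | h1
    · rw [h1 n hn, mul_inv_cancel]; exact one_mem _
    · rw [h1 n hn]
      rcases h.t_comm i n hnV with h2 | h2
      · rw [h2, mul_inv_cancel]; exact one_mem _
      · rw [h2, mul_inv_cancel_right]; exact mem_zpowers _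
  have hcV : b * n * b⁻¹ * n⁻¹ ∈ V := (zpowers_le).2 (h.dV i) hbn
  have e2 := h.ZcV z hz _ hcV
  have e3 := h.ZcV z hz _ hnV
  have e : z * n * b * (z * n)⁻¹ * b⁻¹ = (b * n * b⁻¹ * n⁻¹)⁻¹ := by
    have h3 : z * (n * b * n⁻¹ * b⁻¹) = (n * b * n⁻¹ * b⁻¹) * z := by
      have h4 := h.ZcV z hz _ (inv_mem hcV)
      have e5 : (b * n * b⁻¹ * n⁻¹)⁻¹ = n * b * n⁻¹ * b⁻¹ := by group
      rwa [e5] at h4
    calc z * n * b * (z * n)⁻¹ * b⁻¹ = z * (n * b * n⁻¹ * b⁻¹) * (b * z⁻¹ * b⁻¹) := by group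
      _ = (n * b * n⁻¹ * b⁻¹) * z * (b * z⁻¹ * b⁻¹) := by rw [h3]
      _ = (n * b * n⁻¹ * b⁻¹) * (z * b) * z⁻¹ * b⁻¹ := by group
      _ = (n * b * n⁻¹ * b⁻¹) * (b * z) * z⁻¹ * b⁻¹ := by rw [e1]
      _ = _ := by group
  rw [e]
  exact inv_mem hbn

/-- The pushing up data for `q = 2`. -/
theorem datS (k : Blk H T V d r i L) (h : In H T Q V N d t r) [Finite G] {A : Subgroup G}
    (hTA : T ≤ A) (hAT : A ≤ normalizer (T : Set G))
    (hcore : ∀ R : Subgroup G, R ≤ T → (∀ x ∈ H, ∀ r ∈ R, x * r * x⁻¹ ∈ R) →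
      (∀ a ∈ A, ∀ r ∈ R, a * r * a⁻¹ ∈ R) → R = ⊥) :
    Dt A L (bau T) (QQ T N i) (VV T N i) (zj T) (zpowers (d i)) where
  BA := (bau_le T).trans hTA
  BL := k.BL
  QB := inf_le_left
  VQ := VV_le_QQ h
  ZV := le_sup_left
  DZ := (zpowers_le).2 (h.d_mem_Z i)
  AnB := fun a ha b hb => (mem_normalizer_iff.1 (normalizer_le_bau T (hAT ha)) b).1 hb
  AnZ := fun a ha b hb =>
    (mem_normalizer_iff.1 (normalizer_le_of_cj (F := zj) zj_cj T (hAT ha)) b).1 hb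
  LnQ := fun _ hl _ hq => k.L_QQ h hl hq
  LnV := fun _ hl _ hv => k.VV_norm h hl hv
  BcZ := fun _ hb _ hy => ((mem_bau.1 hb).2 _ hy).symm
  Vsq := fun v hv => by
    rw [← pow_two]; exact elem_sq h.Y_elem v (VV_le_Y h hv)
  QcV := fun b hb hc => ⟨hb, mem_centralizer_iff.2 fun n hn => (hc n (mem_sup_right hn)).symm⟩
  VcQ := fun x hx v hv => by
    obtain ⟨z, hz, n, hn, rfl⟩ := mem_VV h hv
    have e1 := (mem_bau.1 hx.1).2 z hz
    have e2 := mem_centralizer_iff.1 hx.2 n hn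
    calc x * (z * n) = (x * z) * n := by group
      _ = (z * x) * n := by rw [e1]
      _ = z * (x * n) := by group
      _ = z * (n * x) := by rw [e2]
      _ = z * n * x := by group
  Bsq := fun b hb => ⟨mul_mem hb hb, mem_centralizer_iff.2 fun n hn => by
    have h1 := h.EE_sq (h.bau_EE hb) (h.NV i hn)
    calc n * (b * b) = (b * b * n * (b * b)⁻¹) * (b * b) := by rw [h1]
      _ = b * b * n := by group⟩
  comm := fun v hv b hb => commS h hv hb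
  Dgen := by
    rw [zpowers_le]
    have hmN : r i * d i * (r i)⁻¹ ∈ N i := h.r_N i (h.dN i)
    have h1 := inv_mem (subset_closure (k := {x | ∃ v ∈ VV T N i, ∃ b ∈ bau T,
      x = v * b * v⁻¹ * b⁻¹}) ⟨_, mem_sup_right hmN, t i, h.t_bau i, rfl⟩)
    have e : (r i * d i * (r i)⁻¹ * t i * (r i * d i * (r i)⁻¹)⁻¹ * (t i)⁻¹)⁻¹ = d i := by
      have h2 := h.t_m i
      calc (r i * d i * (r i)⁻¹ * t i * (r i * d i * (r i)⁻¹)⁻¹ * (t i)⁻¹)⁻¹
          = (t i * (r i * d i * (r i)⁻¹) * (t i)⁻¹) * (r i * d i * (r i)⁻¹)⁻¹ := by group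
        _ = d i := by rw [h2]; group
    rwa [e] at h1
  ncomm := fun v hv hvZ b hb hbQ hc => by
    obtain ⟨z, hz, n, hn, rfl⟩ := mem_VV h hv
    have e1 : z * b = b * z := (mem_bau.1 hb).2 z hz
    have h1 : b * n * b⁻¹ = n := by
      have h2 : z * (b * n) = z * (n * b) := by
        calc z * (b * n) = (z * b) * n := by group
          _ = (b * z) * n := by rw [e1]
          _ = b * (z * n) := by group
          _ = z * n * b := hc.symm
          _ = _ := by group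
      rw [mul_left_cancel h2]; group
    apply hvZ
    rcases h.B_ne hb hbQ hn h1 with h2 | h2
    · rw [h2, mul_one]; exact hz
    · rw [h2]; exact mul_mem hz (h.d_mem_Z i)
  card := by rw [relIndex_QQ h, relIndex_Z h]
  gen := fun l hl hm K hK hlK => k.gen h hl ((k.mv_iff h hl).1 hm) hK hlK
  moves := by
    obtain ⟨l, hl, hm⟩ := k.mv
    exact ⟨l, hl, (k.mv_iff h hl).2 hm⟩
  mvinv := fun l hl hm => by
    rw [k.mv_iff h (inv_mem hl), inv_inv]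
    exact k.mv_inv ((k.mv_iff h hl).1 hm)
  ti := fun l hl hm b hb hbQ => by
    have hm' := (k.mv_iff h hl).1 hm
    have hlbl : l⁻¹ * b * l ∈ L := mul_mem (mul_mem (inv_mem hl) (k.BL hb)) hl
    rw [k.mv_iff h hlbl]
    intro e
    have h1 : b * (l * d i * l⁻¹) * b⁻¹ = l * d i * l⁻¹ := by
      calc b * (l * d i * l⁻¹) * b⁻¹ = l * (l⁻¹ * b * l * d i * (l⁻¹ * b * l)⁻¹) * l⁻¹ := by group
        _ = l * d i * l⁻¹ := by rw [e]
    rcases h.B_ne hb hbQ (k.L_N h hl (h.dN i)) h1 with h2 | h2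
    · apply h.d1 i
      calc d i = l⁻¹ * (l * d i * l⁻¹) * l := by group
        _ = 1 := by rw [h2]; group
    · exact hm' h2
  core := fun R hR hRL hRA => by
    refine hcore R (hR.trans (bau_le T)) ?_ hRA
    have h1 : H ≤ normalizer (R : Set G) := by
      refine k.sup_T h (fun t ht => mem_normalizer_of_cj_le ?_)
        (fun l hl => mem_normalizer_of_cj_le ?_)
      · rintro _ ⟨r, hr, rfl⟩; exact hRA t (hTA ht) r hr
      · rintro _ ⟨r, hr, rfl⟩; exact hRL l hl r hr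
    exact fun x hx r hr => (mem_normalizer_iff.1 (h1 hx) r).1 hr

theorem exS (k : Blk H T V d r i L) (h : In H T Q V N d t r) [Finite G] :
    Ex L (bau T) (QQ T N i) (VV T N i) (zj T) := by
  intro v hv hvZ b hb hbQ
  obtain ⟨l, hl, hm⟩ := k.mv
  refine ⟨l, hl, ?_⟩
  rcases mem_zp h (commS h hv hb) with h1 | h1
  · exfalso
    obtain ⟨z, hz, n, hn, rfl⟩ := mem_VV h hv
    have hc : z * n * b = b * (z * n) := by
      calc z * n * b = (z * n * b * (z * n)⁻¹ * b⁻¹) * (b * (z * n)) := by group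
        _ = _ := by rw [h1, one_mul]
    have e1 : z * b = b * z := (mem_bau.1 hb).2 z hz
    have h1 : b * n * b⁻¹ = n := by
      have h2 : z * (b * n) = z * (n * b) := by
        calc z * (b * n) = (z * b) * n := by group
          _ = (b * z) * n := by rw [e1]
          _ = b * (z * n) := by group
          _ = z * n * b := hc.symm
          _ = _ := by group
      rw [mul_left_cancel h2]; group
    apply hvZ
    rcases h.B_ne hb hbQ hn h1 with h2 | h2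
    · rw [h2, mul_one]; exact hz
    · rw [h2]; exact mul_mem hz (h.d_mem_Z i)
  · rw [h1]; exact hm

end sym

/-! ### the FF theorem -/

open Cfsg.Agent.Omega.SQ1.FFOne (exists_inK)
open Cfsg.Agent.Omega.NO3b.FPB (SymIn.exists_off SymIn.main)
open Cfsg.Agent.Omega (FFThm.Stmt)

/-- **The pushing up data of a configuration.** -/
theorem Cf.exists_dt [Finite G] (hFF : FFThm.Stmt.{u}) {R P : Subgroup G} (c : Cf R P) :
    ∃ L Q V D : Subgroup G, Dt (normalizer (R : Set G)) L (bau R) Q V (zj R) D ∧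
      Ex L (bau R) Q V (zj R) ∧ ∀ v ∈ V, ∃ z ∈ zj R, ∃ n ∈ zl R P, v = z * n := by
  have hcore : ∀ K : Subgroup G, K ≤ R → (∀ x ∈ P, ∀ r ∈ K, x * r * x⁻¹ ∈ K) →
      (∀ a ∈ normalizer (R : Set G), ∀ r ∈ K, a * r * a⁻¹ ∈ K) → K = ⊥ := fun K hK h1 h2 =>
    c.char K hK (fun a ha => Cfsg.Agent.Omega.SQ1.FFOne.mem_norm_of (h2 a ha))
      (fun a ha => Cfsg.Agent.Omega.SQ1.FFOne.mem_norm_of (h1 a ha))
  have hRN : R ≤ normalizer (R : Set G) := le_normalizer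
  obtain ⟨A, hA, hoff⟩ := SymIn.exists_off c.minH c.cent_sup_ne c.nle
  obtain ⟨hno, ⟨F, _, _, _, k, hk, ⟨N⟩⟩ | ⟨k, m, hk, hm2, ⟨N⟩⟩⟩ :=
    hFF G R P c.syl c.mp c.sc ⟨A, hA.2.1.trans c.syl.1, hoff⟩
  · obtain ⟨N', E, h⟩ := exists_inK c.syl c.mp c.sc c.nle hk N
    obtain ⟨L, kb⟩ := h.exists_blk ⟨0, hk⟩
    refine ⟨L, _, _, _, datK kb h hRN le_rfl hcore, exK kb h, fun v hv => ?_⟩
    obtain ⟨z, hz, n, hn, rfl⟩ := h.mem_VL hv
    exact ⟨z, hz, n, h.NV _ hn, rfl⟩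
  · obtain ⟨ι, N', d, t, r, ⟨i⟩, h, -⟩ := SymIn.main c.minH c.nle hno hk (by omega) N
    obtain ⟨L, kb⟩ := h.exists_blk i
    refine ⟨L, _, _, _, datS kb h hRN le_rfl hcore, exS kb h, fun v hv => ?_⟩
    obtain ⟨z, hz, n, hn, rfl⟩ := Cfsg.Agent.Omega.SQ1.BauS.Blk.mem_VV h hv
    exact ⟨z, hz, n, h.NV _ hn, rfl⟩

end Cfsg.Agent.PushGen
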