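import Cfsg.Agent.PushGen.Last
import Cfsg.Agent.Lib.EssProd

/-!
# Pushing up and a Sylow 2-subgroup of `A`: the structure of noncommuting conjugates

If `V` does not commute with `V ^ b` and `V ^ c` (`b, c ∈ A`) then `Q ^ b = Q ^ c`.

(helper54, for S1823.)
-/

set_option autoImplicit false
set_option linter.unusedSectionVars false

namespace Cfsg.Agent.PushGen

open Cfsg.Agent.MinSimple.PushUp
open Cfsg.Agent.Omega.PushUp (Mv Dm mem_Dm cj_mem_Dm mem_Dm')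

variable {G : Type*} [Group G]

/-- an element which is fixed modulo a smaller normal subgroup -/
theorem exists_fix_mod [Finite G] {S V C : Subgroup G} (hS : IsPGroup 2 S) (hV : IsPGroup 2 V)
    (hSV : ∀ s ∈ S, ∀ v ∈ V, s * v * s⁻¹ ∈ V) (hVC : ¬ V ≤ C) :
    ∃ v ∈ V, v ∉ C ∧ ∀ s ∈ S, v * s * v⁻¹ * s⁻¹ ∈ C := by
  classical
  have hSN : S ≤ Subgroup.normalizer (V : Set G) := by
    intro s hs
    rw [Subgroup.mem_normalizer_iff]
    intro v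
    refine ⟨fun hv => hSV s hs v hv, fun hv => ?_⟩
    have := hSV s⁻¹ (S.inv_mem hs) _ hv
    simpa [mul_assoc] using this
  have hD : IsPGroup 2 ↥(S ⊔ V) := IsPGroup.to_sup_of_normal_right' hS hV hSN
  have : Fact (Nat.Prime 2) := ⟨Nat.prime_two⟩
  obtain ⟨n, hn⟩ := Lib.EssProd.exists_lc_eq_bot hD (le_sup_right : V ≤ S ⊔ V)
  have hDV : S ⊔ V ≤ Subgroup.normalizer (V : Set G) := sup_le hSN Subgroup.le_normalizer
  have hex : ∃ n, Lib.EssProd.lc (S ⊔ V) V n ≤ C := ⟨n, by rw [hn]; exact bot_le⟩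
  have hk := Nat.find_spec hex
  have h0 : Nat.find hex ≠ 0 := by
    intro h0
    rw [h0] at hk
    exact hVC hk
  obtain ⟨k, hk'⟩ : ∃ k, Nat.find hex = k + 1 := ⟨Nat.find hex - 1, by omega⟩
  have hmin := Nat.find_min hex (m := k) (by omega)
  rw [hk'] at hk
  obtain ⟨v, hv, hvC⟩ := Set.not_subset.1 hmin
  refine ⟨v, Lib.EssProd.lc_le le_sup_right hDV k hv, hvC, fun s hs => hk ?_⟩
  exact Subgroup.commutator_mem_commutator hv (Subgroup.mem_sup_left hs)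

variable {A L B Q V Z D : Subgroup G}

/-- commutators are not fixed -/
def Ex (L B Q V Z : Subgroup G) : Prop :=
  ∀ v ∈ V, v ∉ Z → ∀ b ∈ B, b ∉ Q → ∃ l ∈ L, cj l (v * b * v⁻¹ * b⁻¹) ≠ v * b * v⁻¹ * b⁻¹

/-- the subgroup generated by squares -/
def SQ (Q : Subgroup G) : Subgroup G := Subgroup.closure {x | ∃ q ∈ Q, x = q * q}

theorem sq_mem_SQ {q : G} (hq : q ∈ Q) : q * q ∈ SQ Q := Subgroup.subset_closure ⟨q, hq, rfl⟩

theorem SQ_le : SQ Q ≤ Q := by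
  rw [SQ, Subgroup.closure_le]
  rintro x ⟨q, hq, rfl⟩
  exact Q.mul_mem hq hq

theorem comm_mem_SQ {x y : G} (hx : x ∈ Q) (hy : y ∈ Q) : x * y * x⁻¹ * y⁻¹ ∈ SQ Q := by
  have e : x * y * x⁻¹ * y⁻¹ = (x * y * (x * y)) * ((y⁻¹ * x⁻¹ * y) * (y⁻¹ * x⁻¹ * y)) *
      (y⁻¹ * y⁻¹) := by group
  rw [e]
  exact (SQ Q).mul_mem ((SQ Q).mul_mem (sq_mem_SQ (Q.mul_mem hx hy))
    (sq_mem_SQ (Q.mul_mem (Q.mul_mem (Q.inv_mem hy) (Q.inv_mem hx)) hy)))
    (sq_mem_SQ (Q.inv_mem hy))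

theorem SQ_conj {g : G} (hg : ∀ q ∈ Q, cj g q ∈ Q) : ∀ x ∈ SQ Q, cj g x ∈ SQ Q := by
  apply Data.closure_conj
  rintro x ⟨q, hq, rfl⟩
  rw [cj_prod]
  exact sq_mem_SQ (hg q hq)

theorem mem_SQ_Dm {g x : G} : x ∈ SQ (Dm Q g) ↔ cj g⁻¹ x ∈ SQ Q := by
  constructor
  · intro hx
    have : SQ (Dm Q g) ≤ (SQ Q).comap (MulAut.conj g⁻¹).toMonoidHom := by
      rw [SQ, Subgroup.closure_le]
      rintro x ⟨q, hq, rfl⟩
      rw [mem_Dm] at hq
      have h1 := sq_mem_SQ hq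
      rw [← cj_prod] at h1
      simpa [cj] using h1
    have := this hx
    simpa [cj] using this
  · intro hx
    have : SQ Q ≤ (SQ (Dm Q g)).comap (MulAut.conj g).toMonoidHom := by
      rw [SQ, Subgroup.closure_le]
      rintro x ⟨q, hq, rfl⟩
      have h1 := sq_mem_SQ (cj_mem_Dm (D := Q) (g := g) hq)
      rw [← cj_prod] at h1
      simpa [cj] using h1
    have := this hx
    have e : cj g (cj g⁻¹ x) ∈ SQ (Dm Q g) := by simpa [cj] using this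
    rwa [cj_cj_inv] at e

namespace Dt

variable (h : Dt A L B Q V Z D)

include h

/-- an element all of whose `L`-conjugates lie in `Z` is fixed by `L` -/
theorem cent_of_Z {x : G} (hx : ∀ l ∈ L, cj l x ∈ Z) : ∀ l ∈ L, cj l x = x := by
  obtain ⟨m, hm, hmv⟩ := h.moves
  have hLc : L ≤ Subgroup.centralizer {x} := by
    apply h.gen m hm hmv
    · intro b hb
      rw [Subgroup.mem_centralizer_iff]
      intro y hy
      rw [Set.mem_singleton_iff] at hy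
      rw [hy]
      have := hx 1 L.one_mem
      rw [cj_one] at this
      exact (h.BcZ b hb x this).symm
    · intro b hb
      rw [Subgroup.mem_centralizer_iff]
      intro y hy
      rw [Set.mem_singleton_iff] at hy
      rw [hy]
      have := (cj_comm (g := m)).2 (h.BcZ b hb _ (hx m⁻¹ (L.inv_mem hm)))
      rw [cj_cj_inv] at this
      exact this.symm
  intro l hl
  rw [cj_eq_self]
  exact (Subgroup.mem_centralizer_iff.1 (hLc hl) x rfl).symm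

/-- normal 2-subgroups of `L` do not meet `B ∖ Q` -/
theorem two_cap [Finite G] (hex : Ex L B Q V Z) {S : Subgroup G} (hS : IsPGroup 2 S)
    (hLS : ∀ l ∈ L, ∀ s ∈ S, cj l s ∈ S) {s : G} (hs : s ∈ S) (hsB : s ∈ B) : s ∈ Q := by
  by_contra hsQ
  let C : Subgroup G :=
    { carrier := {x | x ∈ V ∧ ∀ l ∈ L, cj l x = x}
      one_mem' := ⟨V.one_mem, fun l _ => by simp [cj]⟩
      mul_mem' := by
        rintro a b ⟨ha, ha'⟩ ⟨hb, hb'⟩
        exact ⟨V.mul_mem ha hb, fun l hl => by rw [cj_prod, ha' l hl, hb' l hl]⟩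
      inv_mem' := by
        rintro a ⟨ha, ha'⟩
        exact ⟨V.inv_mem ha, fun l hl => by rw [cj_inv, ha' l hl]⟩ }
  have hVC : ¬ V ≤ C := by
    intro hle
    obtain ⟨l, hl, d, hd, hdZ⟩ := h.moves
    apply hdZ
    rw [(hle (h.DV hd)).2 l hl]
    exact h.DZ hd
  have hV2 : IsPGroup 2 V := by
    intro v
    refine ⟨1, ?_⟩
    rw [pow_one, pow_two]
    exact Subtype.ext (h.Vsq v v.2)
  have hS0 : IsPGroup 2 ↥(S ⊓ L) := hS.to_le inf_le_left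
  obtain ⟨v, hv, hvC, hfix⟩ := exists_fix_mod hS0 hV2 (fun s hs v hv => h.LnV s hs.2 v hv) hVC
  -- such elements lie in `Z`
  have key : ∀ v ∈ V, (∀ s ∈ S ⊓ L, v * s * v⁻¹ * s⁻¹ ∈ C) → v ∈ Z := by
    intro v hv hfix
    by_contra hvZ
    obtain ⟨l, hl, hne⟩ := hex v hv hvZ s hsB hsQ
    exact hne ((hfix s ⟨hs, h.BL hsB⟩).2 l hl)
  apply hvC
  refine ⟨hv, h.cent_of_Z (fun l hl => ?_)⟩
  apply key _ (h.cjV hl hv)
  intro s' hs'
  have h1 := hfix (cj l⁻¹ s') ⟨hLS l⁻¹ (L.inv_mem hl) s' hs'.1,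
    L.mul_mem (L.mul_mem (L.inv_mem hl) hs'.2) (L.inv_mem (L.inv_mem hl))⟩
  have e : cj l v * s' * (cj l v)⁻¹ * s'⁻¹ =
      cj l (v * cj l⁻¹ s' * v⁻¹ * (cj l⁻¹ s')⁻¹) := by
    simp [cj, mul_assoc]
  rw [e, h1.2 l hl]
  exact h1

section

variable [Finite G] {b : G} (hb : b ∈ A) (hnc : ¬ Com V b)

include hb hnc

theorem nc_B {x : G} (hx : x ∈ B) : ∃ v ∈ V, ∃ q ∈ Q, x = cj b v * q := by
  have hc : ∀ m < 0, ∀ w ∈ W A L m, Com V w := fun m hm => absurd hm (Nat.not_lt_zero m)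
  exact h.crit_B hc (show b ∈ W A L 0 from hb) hnc hx

theorem nc_B' {x : G} (hx : x ∈ B) : ∃ v ∈ V, ∃ q ∈ Q, x = v * cj b q := by
  obtain ⟨v, hv, q, hq, e⟩ := h.nc_B (A.inv_mem hb) (fun hcom => hnc hcom.of_inv)
    (h.cjB (A.inv_mem hb) hx)
  refine ⟨v, hv, q, hq, ?_⟩
  have := congrArg (cj b) e
  rw [cj_cj_inv, cj_prod, cj_cj_inv] at this
  exact this

theorem nc_D {d : G} (hd : d ∈ D) : cj b d ∈ D := by
  have hc : ∀ m < 0, ∀ w ∈ W A L m, Com V w := fun m hm => absurd hm (Nat.not_lt_zero m)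
  exact h.crit_D hc (show b ∈ W A L 0 from hb) hnc hd

theorem nc_Z {v : G} (hv : v ∈ V) (hcv : ∀ u ∈ V, v * cj b u = cj b u * v) : v ∈ Z := by
  have hc : ∀ m < 0, ∀ w ∈ W A L m, Com V w := fun m hm => absurd hm (Nat.not_lt_zero m)
  exact h.crit_Z hc (show b ∈ W A L 0 from hb) hnc hv hcv

/-- `V ∩ Q ^ b ≤ Z` -/
theorem V_cap {v : G} (hv : v ∈ V) (hvq : cj b⁻¹ v ∈ Q) : v ∈ Z := by
  apply h.nc_Z hb hnc hv
  intro u hu
  have := (cj_comm (g := b)).2 (h.VcQ _ hvq u hu)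
  rwa [cj_cj_inv] at this

/-- `Q = V * (Q ∩ Q ^ b)` -/
theorem Q_dec {q : G} (hq : q ∈ Q) :
    ∃ v ∈ V, ∃ k ∈ Q, cj b⁻¹ k ∈ Q ∧ q = v * k ∧ q * q = k * k := by
  obtain ⟨v, hv, q', hq', e⟩ := h.nc_B' hb hnc (h.QB hq)
  have hk : cj b q' = v⁻¹ * q := by rw [e]; simp
  have hkQ : cj b q' ∈ Q := by rw [hk]; exact Q.mul_mem (Q.inv_mem (h.VQ hv)) hq
  refine ⟨v, hv, cj b q', hkQ, by rwa [cj_inv_cj], e, ?_⟩
  have h1 : cj b q' * v = v * cj b q' := h.VcQ _ hkQ v hv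
  rw [e]
  calc v * cj b q' * (v * cj b q') = v * (cj b q' * v) * cj b q' := by simp only [mul_assoc]
    _ = v * (v * cj b q') * cj b q' := by rw [h1]
    _ = (v * v) * (cj b q' * cj b q') := by simp only [mul_assoc]
    _ = cj b q' * cj b q' := by rw [h.Vsq v hv, one_mul]

/-- `Q ^ b = V ^ b * (Q ∩ Q ^ b)` -/
theorem Q_dec' {q : G} (hq : cj b⁻¹ q ∈ Q) :
    ∃ v ∈ V, ∃ k ∈ Q, cj b⁻¹ k ∈ Q ∧ q = cj b v * k ∧ q * q = k * k := by
  obtain ⟨v, hv, k, hk, hk', e, e'⟩ := h.Q_dec (A.inv_mem hb) (fun hcom => hnc hcom.of_inv) hq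
  rw [inv_inv] at hk'
  refine ⟨v, hv, cj b k, hk', by rwa [cj_inv_cj], ?_, ?_⟩
  · have := congrArg (cj b) e
    rwa [cj_cj_inv, cj_prod] at this
  · have := congrArg (cj b) e'
    rwa [cj_prod, cj_prod, cj_cj_inv] at this

theorem SQ_eq : SQ (Dm Q b) = SQ Q := by
  apply le_antisymm
  · rw [SQ, Subgroup.closure_le]
    rintro x ⟨q, hq, rfl⟩
    rw [mem_Dm] at hq
    obtain ⟨v, hv, k, hk, hk', e, e'⟩ := h.Q_dec' hb hnc hq
    rw [e']
    exact sq_mem_SQ hk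
  · nth_rewrite 1 [SQ]
    rw [Subgroup.closure_le]
    rintro x ⟨q, hq, rfl⟩
    obtain ⟨v, hv, k, hk, hk', e, e'⟩ := h.Q_dec hb hnc hq
    rw [e']
    exact sq_mem_SQ (mem_Dm.2 hk')

/-- elements of `V ∩ Φ(Q)` are fixed by `L` -/
theorem SQ_cent {x : G} (hx : x ∈ SQ Q) (hxV : x ∈ V) : ∀ l ∈ L, cj l x = x := by
  have key : ∀ x ∈ SQ Q, x ∈ V → x ∈ Z := by
    intro x hx hxV
    apply h.V_cap hb hnc hxV
    rw [← h.SQ_eq hb hnc] at hx
    exact mem_Dm.1 (SQ_le hx)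
  apply h.cent_of_Z
  intro l hl
  exact key _ (SQ_conj (fun q hq => h.cjQ hl hq) x hx) (h.cjV hl hxV)

/-- every involution of `B` lies in `Q` or in `Q ^ b` -/
theorem invol (hex : Ex L B Q V Z) {x : G} (hx : x ∈ B) (hxx : x * x = 1) :
    x ∈ Q ∨ cj b⁻¹ x ∈ Q := by
  obtain ⟨v, hv, q, hq, rfl⟩ := h.nc_B hb hnc hx
  by_cases hwQ : cj b v ∈ Q
  · left; exact Q.mul_mem hwQ hq
  · obtain ⟨u, hu, k, hk, hk', rfl, -⟩ := h.Q_dec hb hnc hq
    by_cases huZ : u ∈ Z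
    · right
      rw [cj_prod, cj_inv_cj, cj_prod]
      exact Q.mul_mem (h.VQ hv) (Q.mul_mem (h.VQ (h.ZV (h.cjZ (A.inv_mem hb) huZ))) hk')
    · exfalso
      set w := cj b v with hw
      have hwB : w ∈ B := h.cjB hb (h.VB hv)
      obtain ⟨l, hl, hne⟩ := hex u hu huZ w hwB hwQ
      apply hne
      have hww : w * w = 1 := by rw [hw, ← cj_prod, h.Vsq v hv]; simp [cj]
      have huu : u * u = 1 := h.Vsq u hu
      have hwi : w⁻¹ = w := inv_eq_of_mul_eq_one_left hww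
      have hui : u⁻¹ = u := inv_eq_of_mul_eq_one_left huu
      have k1 : k * u = u * k := h.VcQ k hk u hu
      have k2 : k * w = w * k := by
        have := (cj_comm (g := b)).2 (h.VcQ _ hk' v hv)
        rwa [cj_cj_inv] at this
      have e1 : w * (u * k) * (w * (u * k)) = (w * u * w * u) * (k * k) := by
        calc w * (u * k) * (w * (u * k)) = w * u * (k * w) * u * k := by simp only [mul_assoc]
          _ = w * u * (w * k) * u * k := by rw [k2]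
          _ = w * u * w * (k * u) * k := by simp only [mul_assoc]
          _ = w * u * w * (u * k) * k := by rw [k1]
          _ = (w * u * w * u) * (k * k) := by simp only [mul_assoc]
      rw [e1] at hxx
      have e2 : u * w * u⁻¹ * w⁻¹ = k * k := by
        have h1 := eq_inv_of_mul_eq_one_left hxx
        have h2 : (w * u * w * u)⁻¹ = u * w * u⁻¹ * w⁻¹ := by
          simp only [mul_inv_rev, hwi, hui, mul_assoc]
        rw [← h2, h1, inv_inv]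
      rw [e2]
      apply h.SQ_cent hb hnc (sq_mem_SQ hk)
      · rw [← e2]; exact h.DV (h.comm u hu w hwB)
      · exact hl

variable {c : G} (hcA : c ∈ A) (hnc' : ¬ Com V c)

include hcA hnc'

/-- `V ^ c ≤ Q ^ b` -/
theorem V_le_Q (hex : Ex L B Q V Z) {v : G} (hv : v ∈ V) : cj b⁻¹ (cj c v) ∈ Q := by
  by_contra hy
  -- an element outside `Q`
  obtain ⟨z, hz, hzQ⟩ : ∃ z ∈ V, cj c z ∉ Q := by
    by_contra hcon
    push Not at hcon
    exact hnc' (fun v hv u hu => (h.VcQ _ (hcon u hu) v hv).symm)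
  have hinv : ∀ v ∈ V, cj c v ∈ Q ∨ cj b⁻¹ (cj c v) ∈ Q := by
    intro v hv
    apply h.invol hb hnc hex (h.cjB hcA (h.VB hv))
    rw [← cj_prod, h.Vsq v hv]; simp [cj]
  have h1 := (hinv v hv).resolve_right hy
  have h2 := (hinv z hz).resolve_left hzQ
  rcases hinv (v * z) (V.mul_mem hv hz) with h3 | h3
  · apply hzQ
    have : cj c z = (cj c v)⁻¹ * cj c (v * z) := by rw [cj_prod]; simp
    rw [this]
    exact Q.mul_mem (Q.inv_mem h1) h3
  · apply hy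
    have : cj b⁻¹ (cj c v) = cj b⁻¹ (cj c (v * z)) * (cj b⁻¹ (cj c z))⁻¹ := by
      rw [cj_prod c, cj_prod]; simp
    rw [this]
    exact Q.mul_mem h3 (Q.inv_mem h2)

/-- `Q ∩ Q ^ b ≤ Q ^ c` -/
theorem K_le_Q (hex : Ex L B Q V Z) {k : G} (hk : k ∈ Q) (hk' : cj b⁻¹ k ∈ Q) :
    cj c⁻¹ k ∈ Q := by
  by_contra hkc
  obtain ⟨z, hz, hzQ⟩ : ∃ z ∈ V, cj c z ∉ Q := by
    by_contra hcon
    push Not at hcon
    exact hnc' (fun v hv u hu => (h.VcQ _ (hcon u hu) v hv).symm)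
  have hzZ : z ∉ Z := fun hz' => hzQ (h.VQ (h.ZV (h.cjZ hcA hz')))
  have hkB : cj c⁻¹ k ∈ B := h.cjB (A.inv_mem hcA) (h.QB hk)
  obtain ⟨l, hl, hne⟩ := hex z hz hzZ _ hkB hkc
  apply hne
  apply h.SQ_cent hb hnc _ (h.DV (h.comm z hz _ hkB)) l hl
  -- the commutator lies in `Φ(Q)`
  obtain ⟨v, hv, k₀, hk₀, hk₀', e, -⟩ := h.Q_dec' hb hnc (h.V_le_Q hb hnc hcA hnc' hex hz)
  have k1 : cj b v * k₀ = k₀ * cj b v := by
    have := (cj_comm (g := b)).2 (h.VcQ _ hk₀' v hv)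
    rw [cj_cj_inv] at this
    exact this.symm
  have k2 : cj b v * k = k * cj b v := by
    have := (cj_comm (g := b)).2 (h.VcQ _ hk' v hv)
    rw [cj_cj_inv] at this
    exact this.symm
  have e1 : z * cj c⁻¹ k * z⁻¹ * (cj c⁻¹ k)⁻¹ = cj c⁻¹ (cj c z * k * (cj c z)⁻¹ * k⁻¹) := by
    simp [cj, mul_assoc]
  have e2 : cj c z * k * (cj c z)⁻¹ * k⁻¹ = k₀ * k * k₀⁻¹ * k⁻¹ := by
    rw [e]
    have hw : ∀ x, x * cj b v = cj b v * x → cj b v * x * (cj b v)⁻¹ = x := by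
      intro x hx
      rw [← hx]; simp
    calc cj b v * k₀ * k * (cj b v * k₀)⁻¹ * k⁻¹
        = cj b v * (k₀ * k * k₀⁻¹) * ((cj b v)⁻¹ * k⁻¹) := by simp only [mul_inv_rev, mul_assoc]
      _ = cj b v * (k₀ * k * k₀⁻¹) * (k⁻¹ * (cj b v)⁻¹) := by
          have : (cj b v)⁻¹ * k⁻¹ = k⁻¹ * (cj b v)⁻¹ := by
            rw [← mul_inv_rev, ← mul_inv_rev, k2]
          rw [this]
      _ = cj b v * (k₀ * k * k₀⁻¹ * k⁻¹) * (cj b v)⁻¹ := by simp only [mul_assoc]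
      _ = k₀ * k * k₀⁻¹ * k⁻¹ := by
          apply hw
          have c1 : Commute k₀ (cj b v) := k1.symm
          have c2 : Commute k (cj b v) := k2.symm
          exact ((c1.mul_left c2).mul_left c1.inv_left).mul_left c2.inv_left
  rw [e1, e2]
  have h1 : k₀ * k * k₀⁻¹ * k⁻¹ ∈ SQ Q := comm_mem_SQ hk₀ hk
  rw [← h.SQ_eq hcA hnc'] at h1
  exact mem_SQ_Dm.1 h1

/-- neighbours have the same `Q` -/
theorem Q_le_Q (hex : Ex L B Q V Z) : Dm Q b ≤ Dm Q c := by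
  intro x hx
  rw [mem_Dm] at hx ⊢
  obtain ⟨v, hv, k, hk, hk', rfl, -⟩ := h.Q_dec' hb hnc hx
  rw [cj_prod]
  exact Q.mul_mem (h.V_le_Q hcA hnc' hb hnc hex hv) (h.K_le_Q hb hnc hcA hnc' hex hk hk')

theorem Q_eq_Q (hex : Ex L B Q V Z) : Dm Q b = Dm Q c :=
  le_antisymm (h.Q_le_Q hb hnc hcA hnc' hex) (h.Q_le_Q hcA hnc' hb hnc hex)

end

end Dt

end Cfsg.Agent.PushGen
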