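import Cfsg.Agent.PushGen.Kill

/-!
# Pushing up and a Sylow 2-subgroup of `A`: the contradiction

`Dt.kill`: the pushing up data do not exist if `A` contains a Sylow 2-subgroup `T` of the group,
`V` commutes with its conjugates under `T`, and the normalisers of the nontrivial `T`-invariant
subgroups of `B` are of characteristic two.

(helper54, for S1823.)
-/

set_option autoImplicit false
set_option linter.unusedSectionVars false

namespace Cfsg.Agent.PushGen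

open Cfsg.Agent.MinSimple.PushUp
open Cfsg.Agent.Omega.PushUp (Mv Dm mem_Dm cj_mem_Dm mem_Dm')

variable {G : Type*} [Group G]

/-- a finite group without nontrivial elements of odd order is a 2-group -/
theorem isTwo_of_odd [Finite G] {L : Subgroup G} (hL : ∀ g ∈ L, Odd (orderOf g) → g = 1) :
    IsPGroup 2 L := by
  intro g
  obtain ⟨k, m, hm, hk⟩ := Nat.exists_eq_two_pow_mul_odd (n := orderOf (g : G))
    (orderOf_pos (g : G)).ne'
  refine ⟨k, Subtype.ext ?_⟩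
  have h1 : ((g : G) ^ 2 ^ k) ^ m = 1 := by rw [← pow_mul, ← hk]; exact pow_orderOf_eq_one _
  have h2 : Odd (orderOf ((g : G) ^ 2 ^ k)) := Odd.of_dvd_nat hm (orderOf_dvd_of_pow_eq_one h1)
  have := hL _ (L.pow_mem g.2 _) h2
  simpa using this

/-- an element of odd order in a 2-group is trivial -/
theorem odd_eq_one {Y : Subgroup G} (hY : IsPGroup 2 Y) {c : G} (hc : c ∈ Y) {n : ℕ}
    (hn : Odd n) (h : c ^ n = 1) : c = 1 := by
  obtain ⟨k, hk⟩ := hY ⟨c, hc⟩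
  have hk' : c ^ 2 ^ k = 1 := by simpa using congrArg (Subtype.val) hk
  have h1 : orderOf c ∣ 2 ^ k := orderOf_dvd_of_pow_eq_one hk'
  have h2 : orderOf c ∣ n := orderOf_dvd_of_pow_eq_one h
  have h3 : Nat.Coprime (2 ^ k) n := Nat.Coprime.pow_left k (Nat.coprime_two_left.2 hn)
  have h4 : orderOf c = 1 := Nat.dvd_one.1 (h3 ▸ Nat.dvd_gcd h1 h2)
  exact orderOf_eq_one_iff.1 h4

theorem card_range {X : Type*} {K N : Subgroup G} (f : K → X)
    (hf : ∀ k k' : K, f k = f k' ↔ (k : G)⁻¹ * k' ∈ N) :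
    Nat.card (Set.range f) = N.relIndex K := by
  have h1 : QuotientGroup.leftRel (N.subgroupOf K) = Setoid.ker f := by
    ext k k'
    rw [QuotientGroup.leftRel_apply, Subgroup.mem_subgroupOf, Setoid.ker_def, hf]
    rfl
  have h2 : Nat.card (Quotient (Setoid.ker f)) = Nat.card (Set.range f) :=
    Nat.card_congr (Setoid.quotientKerEquivRange f)
  rw [← h2, ← h1]
  rfl

theorem Dm_mul {Q : Subgroup G} {g x : G} : Dm Q (g * x) = Dm (Dm Q x) g := by
  ext y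
  rw [mem_Dm, mem_Dm, mem_Dm, mul_inv_rev, cj_mul]

theorem Dm_inj {Q R : Subgroup G} {g : G} : Dm Q g = Dm R g ↔ Q = R := by
  constructor
  · intro h
    ext y
    have := SetLike.ext_iff.1 h (cj g y)
    rwa [mem_Dm, mem_Dm, cj_inv_cj] at this
  · rintro rfl; rfl

theorem Dm_one {Q : Subgroup G} : Dm Q 1 = Q := by
  ext y; rw [mem_Dm, inv_one, cj_one]

theorem Dm_eq_iff {Q : Subgroup G} {a c : G} : Dm Q a = Dm Q c ↔ Dm Q (a⁻¹ * c) = Q := by
  rw [Dm_mul]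
  constructor
  · intro h
    rw [← h, ← Dm_mul, inv_mul_cancel, Dm_one]
  · intro h
    have := (Dm_inj (g := a)).2 h
    rw [← Dm_mul, mul_inv_cancel, Dm_one] at this
    exact this.symm

/-- the stabiliser -/
def NQ (Q : Subgroup G) : Subgroup G where
  carrier := {g | Dm Q g = Q}
  one_mem' := Dm_one
  mul_mem' := by
    intro a b ha hb
    show Dm Q (a * b) = Q
    rw [Dm_mul, show Dm Q b = Q from hb]; exact ha
  inv_mem' := by
    intro a ha
    have ha' : Dm Q a = Q := ha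
    have h1 := (Dm_eq_iff (Q := Q) (a := a) (c := 1)).1 (by rw [ha', Dm_one])
    rwa [mul_one] at h1

theorem mem_NQ {Q : Subgroup G} {g : G} : g ∈ NQ Q ↔ Dm Q g = Q := Iff.rfl

variable {A L B Q V Z D : Subgroup G}

namespace Dt

variable (h : Dt A L B Q V Z D)

include h

section

variable [Finite G]

/-- neighbours of a vertex have the same `Q` -/
theorem nb_eq (hex : Ex L B Q V Z) {a c c' : G} (ha : a ∈ A) (hc : c ∈ A) (hc' : c' ∈ A)
    (h1 : ¬ Com V (a⁻¹ * c)) (h2 : ¬ Com V (a⁻¹ * c')) : Dm Q c = Dm Q c' := by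
  have := h.Q_eq_Q (A.mul_mem (A.inv_mem ha) hc) h1 (A.mul_mem (A.inv_mem ha) hc') h2 hex
  have := (Dm_inj (g := a)).2 this
  rw [← Dm_mul, ← Dm_mul, mul_inv_cancel_left, mul_inv_cancel_left] at this
  exact this

theorem nc_symm {a c : G} (h1 : ¬ Com V (a⁻¹ * c)) : ¬ Com V (c⁻¹ * a) := by
  intro hcom
  apply h1
  have := hcom.inv
  simpa using this

/-- if `V ^ a` and `V ^ c` commute then `V ^ c ≤ Q ^ a` -/
theorem com_Q {a c : G} (ha : a ∈ A) (hc : c ∈ A) (h1 : Com V (a⁻¹ * c)) {v : G} (hv : v ∈ V) :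
    cj a⁻¹ (cj c v) ∈ Q := by
  apply h.QcV _ (h.cjB (A.inv_mem ha) (h.cjB hc (h.VB hv)))
  intro u hu
  have := h1 u hu v hv
  rw [cj_mul] at this
  exact this.symm

theorem nc_congr {a a' c : G} (ha' : a' ∈ A) (hc : c ∈ A) (he : Dm Q a = Dm Q a')
    (h1 : ¬ Com V (a⁻¹ * c)) : ¬ Com V (a'⁻¹ * c) := by
  intro hcom
  apply h1
  intro u hu v hv
  have h2 := h.com_Q ha' hc hcom hv
  rw [← mem_Dm, ← he, mem_Dm] at h2
  rw [cj_mul]
  exact (h.VcQ _ h2 u hu).symm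

end

/-- no components outside the `T`-orbit -/
theorem kill_out [Finite G] (hex : Ex L B Q V Z) {T : Subgroup G}
    (hTA : T ≤ A) (hT2 : IsPGroup 2 T) (hBT : B ≤ T)
    (hTV : ∀ t ∈ T, Com V t)
    (hchar : ∀ E : Subgroup G, E ≠ ⊥ → E ≤ B → (∀ t ∈ T, ∀ e ∈ E, cj t e ∈ E) →
      ∃ Y : Subgroup G, Y ≤ T ∧ (∀ g : G, (∀ e ∈ E, cj g e ∈ E) → ∀ y ∈ Y, cj g y ∈ Y) ∧
        (∀ g : G, (∀ y ∈ Y, g * y = y * g) → g ∈ Y))
    {b : G} (hb : b ∈ A) (hnc : ¬ Com V b) {a : G} (ha : a ∈ A) :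
    ∃ t ∈ T, Dm Q a = Dm Q t ∨ Dm Q a = Dm Q (t * b) := by
  by_contra hcon
  push Not at hcon
  -- the outside elements
  let Out : G → Prop := fun a => a ∈ A ∧ ∀ t ∈ T, Dm Q a ≠ Dm Q t ∧ Dm Q a ≠ Dm Q (t * b)
  have hOa : Out a := ⟨ha, hcon⟩
  have hnb : ∀ c : G, ¬ Com V (c⁻¹ * (c * b)) := by
    intro c; rwa [inv_mul_cancel_left]
  have hO1 : ∀ a, Out a → ∀ t ∈ T, Com V (t⁻¹ * a) := by
    intro a hO t ht
    by_contra hn
    exact (hO.2 t ht).2 (h.nb_eq hex (hTA ht) hO.1 (A.mul_mem (hTA ht) hb) hn (hnb t))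
  have hO2 : ∀ a, Out a → ∀ t ∈ T, Com V ((t * b)⁻¹ * a) := by
    intro a hO t ht
    by_contra hn
    exact (hO.2 t ht).1 (h.nb_eq hex (A.mul_mem (hTA ht) hb) hO.1 (hTA ht) hn
      (h.nc_symm (hnb t)))
  have hO3 : ∀ a, Out a → Out (a * b) := by
    intro a hO
    refine ⟨A.mul_mem hO.1 hb, fun t ht => ⟨fun he => ?_, fun he => ?_⟩⟩
    · exact h.nc_congr (hTA ht) hO.1 he (h.nc_symm (hnb a)) (hO1 a hO t ht)
    · exact h.nc_congr (A.mul_mem (hTA ht) hb) hO.1 he (h.nc_symm (hnb a)) (hO2 a hO t ht)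
  have hO4 : ∀ a, Out a → ∀ t ∈ T, Out (t * a) := by
    intro a hO t ht
    refine ⟨A.mul_mem (hTA ht) hO.1, fun s hs => ⟨fun he => ?_, fun he => ?_⟩⟩
    · apply (hO.2 (t⁻¹ * s) (T.mul_mem (T.inv_mem ht) hs)).1
      apply (Dm_inj (g := t)).1
      rw [← Dm_mul, ← Dm_mul, mul_inv_cancel_left]; exact he
    · apply (hO.2 (t⁻¹ * s) (T.mul_mem (T.inv_mem ht) hs)).2
      apply (Dm_inj (g := t)).1
      rw [← Dm_mul, ← Dm_mul, mul_assoc, mul_inv_cancel_left]; exact he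
  -- the conjugates of `V` under outside elements lie in `Q` and in `Q ^ b`
  have hQ1 : ∀ a, Out a → ∀ v ∈ V, cj a v ∈ Q := by
    intro a hO v hv
    have := h.com_Q A.one_mem hO.1 (hO1 a hO 1 T.one_mem) hv
    rwa [inv_one, cj_one] at this
  have hQ2 : ∀ a, Out a → ∀ v ∈ V, cj b⁻¹ (cj a v) ∈ Q := by
    intro a hO v hv
    have := h.com_Q (A.mul_mem A.one_mem hb) hO.1 (hO2 a hO 1 T.one_mem) hv
    rwa [one_mul] at this
  -- `D ^ a ≤ Φ(Q)`
  have hDS : ∀ a, Out a → ∀ d ∈ D, cj a d ∈ SQ Q := by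
    intro a hO d hd
    have hle : Subgroup.closure {x | ∃ v ∈ V, ∃ b ∈ B, x = v * b * v⁻¹ * b⁻¹} ≤
        (SQ Q).comap (MulAut.conj a).toMonoidHom := by
      rw [Subgroup.closure_le]
      rintro x ⟨v, hv, x', hx', rfl⟩
      obtain ⟨v', hv', q, hq, rfl⟩ := h.nc_B hb hnc hx'
      have hqv : q * v⁻¹ = v⁻¹ * q := h.VcQ q hq _ (V.inv_mem hv)
      have e1 : v * (cj b v' * q) * v⁻¹ * (cj b v' * q)⁻¹ =
          v * cj b v' * v⁻¹ * (cj b v')⁻¹ := by
        calc v * (cj b v' * q) * v⁻¹ * (cj b v' * q)⁻¹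
            = v * cj b v' * (q * v⁻¹) * q⁻¹ * (cj b v')⁻¹ := by simp [mul_assoc]
          _ = v * cj b v' * (v⁻¹ * q) * q⁻¹ * (cj b v')⁻¹ := by rw [hqv]
          _ = v * cj b v' * v⁻¹ * (cj b v')⁻¹ := by simp [mul_assoc]
      have e2 : cj a (v * cj b v' * v⁻¹ * (cj b v')⁻¹) =
          cj a v * cj (a * b) v' * (cj a v)⁻¹ * (cj (a * b) v')⁻¹ := by
        simp [cj, mul_assoc]
      have h1 : cj a (v * (cj b v' * q) * v⁻¹ * (cj b v' * q)⁻¹) ∈ SQ Q := by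
        rw [e1, e2]
        exact comm_mem_SQ (hQ1 a hO v hv) (hQ1 _ (hO3 a hO) v' hv')
      simpa [cj] using h1
    have := hle (h.Dgen hd)
    simpa [cj] using this
  -- the subgroup `E`
  let E : Subgroup G := Subgroup.closure {x | ∃ a, Out a ∧ ∃ d ∈ D, x = cj a d}
  have hEZ : E ≤ Z := by
    rw [Subgroup.closure_le]
    rintro x ⟨a, hO, d, hd, rfl⟩
    exact h.cjZ hO.1 (h.DZ hd)
  have hEB : E ≤ B := hEZ.trans (h.ZV.trans h.VB)
  have hET : ∀ t ∈ T, ∀ e ∈ E, cj t e ∈ E := by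
    intro t ht
    apply Data.closure_conj
    rintro x ⟨a, hO, d, hd, rfl⟩
    rw [← cj_mul]
    exact Subgroup.subset_closure ⟨t * a, hO4 a hO t ht, d, hd, rfl⟩
  have hE1 : E ≠ ⊥ := by
    intro he
    obtain ⟨d, hd, hd1⟩ := h.exists_ne
    have : cj a d ∈ E := Subgroup.subset_closure ⟨a, hOa, d, hd, rfl⟩
    rw [he, Subgroup.mem_bot] at this
    apply hd1
    apply cj_inj (g := a)
    rw [this]; simp [cj]
  -- `L` and `L ^ b` centralise `E`
  have hEL : ∀ l ∈ L, ∀ e ∈ E, cj l e ∈ E := by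
    intro l hl
    apply Data.closure_conj
    rintro x ⟨a, hO, d, hd, rfl⟩
    have h1 := h.SQ_cent hb hnc (hDS a hO d hd) (h.ZV (h.cjZ hO.1 (h.DZ hd))) l hl
    rw [h1]
    exact Subgroup.subset_closure ⟨a, hO, d, hd, rfl⟩
  have hELb : ∀ l ∈ L, ∀ e ∈ E, cj (cj b l) e ∈ E := by
    intro l hl
    apply Data.closure_conj
    rintro x ⟨a, hO, d, hd, rfl⟩
    have h0 : cj b⁻¹ (cj a d) ∈ SQ Q := by
      rw [← mem_SQ_Dm, h.SQ_eq hb hnc]
      exact hDS a hO d hd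
    have h1 := h.SQ_cent hb hnc h0
      (h.ZV (h.cjZ (A.inv_mem hb) (h.cjZ hO.1 (h.DZ hd)))) l hl
    have e : cj (cj b l) (cj a d) = cj a d := by
      rw [cj_cj, h1, cj_cj_inv]
    rw [e]
    exact Subgroup.subset_closure ⟨a, hO, d, hd, rfl⟩
  obtain ⟨Y, hYT, hYn, hYc⟩ := hchar E hE1 hEB hET
  have hY2 : IsPGroup 2 Y := hT2.to_le hYT
  have hYL : ∀ l ∈ L, ∀ y ∈ Y, cj l y ∈ Y := fun l hl => hYn l (hEL l hl)
  have hYLb : ∀ l ∈ L, ∀ y ∈ Y, cj (cj b l) y ∈ Y := fun l hl => hYn _ (hELb l hl)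
  have hYQ : ∀ y ∈ Y, y ∈ B → y ∈ Q := fun y hy hyB => h.two_cap hex hY2 hYL hy hyB
  have hYQb : ∀ y ∈ Y, y ∈ B → cj b⁻¹ y ∈ Q := by
    intro y hy hyB
    have h2 : IsPGroup 2 (Dm Y b⁻¹) := hY2.map _
    refine h.two_cap hex h2 ?_ (cj_mem_Dm hy) (h.cjB (A.inv_mem hb) hyB)
    intro l hl s hs
    rw [mem_Dm, inv_inv] at hs ⊢
    have e : cj b (cj l s) = cj (cj b l) (cj b s) := by simp [cj, mul_assoc]
    rw [e]
    exact hYLb l hl _ hs
  -- `V ^ b` centralises `Y ∩ B`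
  have hVY : ∀ v ∈ V, ∀ y ∈ Y, y ∈ B → cj (cj b v) y = y := by
    intro v hv y hy hyB
    rw [cj_eq_self]
    have := (cj_comm (g := b)).2 (h.VcQ _ (hYQb y hy hyB) v hv)
    rw [cj_cj_inv] at this
    exact this.symm
  have hYA : Y ≤ A := hYT.trans hTA
  -- `[Y, L] ≤ B`
  have hcomm : ∀ g ∈ L, ∀ y ∈ Y, cj g y * y⁻¹ ∈ B := by
    obtain ⟨m, hm, hmv⟩ := h.moves
    let K : Subgroup G :=
      { carrier := {g | g ∈ L ∧ ∀ y ∈ Y, cj g y * y⁻¹ ∈ B}
        one_mem' := ⟨L.one_mem, fun y _ => by rw [cj_one, mul_inv_cancel]; exact B.one_mem⟩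
        mul_mem' := by
          rintro g g' ⟨hg, h1⟩ ⟨hg', h2⟩
          refine ⟨L.mul_mem hg hg', fun y hy => ?_⟩
          have h3 := h1 _ (hYL g' hg' y hy)
          have h4 := B.mul_mem h3 (h2 y hy)
          rw [cj_mul]
          simpa [mul_assoc] using h4
        inv_mem' := by
          rintro g ⟨hg, h1⟩
          refine ⟨L.inv_mem hg, fun y hy => ?_⟩
          have h3 := B.inv_mem (h1 _ (hYL _ (L.inv_mem hg) y hy))
          rw [cj_cj_inv] at h3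
          simpa [mul_assoc] using h3 }
    have hBK : B ≤ K := by
      intro x hx
      refine ⟨h.BL hx, fun y hy => ?_⟩
      have e : cj x y * y⁻¹ = x * cj y x⁻¹ := by simp [cj, mul_assoc]
      rw [e]
      exact B.mul_mem hx (h.cjB (hYA hy) (B.inv_mem hx))
    have hLK : L ≤ K := by
      apply h.gen m hm hmv K hBK
      intro x hx
      refine ⟨L.mul_mem (L.mul_mem hm (h.BL hx)) (L.inv_mem hm), fun y hy => ?_⟩
      have hy' := hYL _ (L.inv_mem hm) y hy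
      have h1 := (hBK hx).2 _ hy'
      have h2 : cj x (cj m⁻¹ y) * (cj m⁻¹ y)⁻¹ ∈ Y :=
        Y.mul_mem (hYL x (h.BL hx) _ hy') (Y.inv_mem hy')
      have h3 := h.QB (h.cjQ hm (hYQ _ h2 h1))
      have e : cj m (cj x (cj m⁻¹ y) * (cj m⁻¹ y)⁻¹) = cj (m * x * m⁻¹) y * y⁻¹ := by
        simp [cj, mul_assoc]
      rwa [e] at h3
    exact fun g hg => (hLK hg).2
  -- the centraliser of `Y ∩ B` in `L`
  let C : Subgroup G :=
    { carrier := {g | g ∈ L ∧ ∀ y ∈ Y, y ∈ B → cj g y = y}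
      one_mem' := ⟨L.one_mem, fun y _ _ => cj_one y⟩
      mul_mem' := by
        rintro g g' ⟨hg, h1⟩ ⟨hg', h2⟩
        exact ⟨L.mul_mem hg hg', fun y hy hyB => by rw [cj_mul, h2 y hy hyB, h1 y hy hyB]⟩
      inv_mem' := by
        rintro g ⟨hg, h1⟩
        refine ⟨L.inv_mem hg, fun y hy hyB => ?_⟩
        conv_lhs => rw [← h1 y hy hyB]
        rw [cj_inv_cj] }
  have hCL : ∀ l ∈ L, ∀ c ∈ C, cj l c ∈ C := by
    rintro l hl c ⟨hc, hcy⟩
    refine ⟨L.mul_mem (L.mul_mem hl hc) (L.inv_mem hl), fun y hy hyB => ?_⟩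
    have h1 : cj l⁻¹ y ∈ Y := hYL _ (L.inv_mem hl) y hy
    have h2 : cj l⁻¹ y ∈ B := h.QB (h.cjQ (L.inv_mem hl) (hYQ y hy hyB))
    rw [cj_cj, hcy _ h1 h2, cj_cj_inv]
  let M : Subgroup G :=
    { carrier := {g | ∃ c ∈ C, ∃ q ∈ Q, g = c * q}
      one_mem' := ⟨1, C.one_mem, 1, Q.one_mem, by simp⟩
      mul_mem' := by
        rintro _ _ ⟨c, hc, q, hq, rfl⟩ ⟨c', hc', q', hq', rfl⟩
        refine ⟨c * cj q c', C.mul_mem hc (hCL q (h.BL (h.QB hq)) c' hc'), q * q',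
          Q.mul_mem hq hq', ?_⟩
        simp [cj, mul_assoc]
      inv_mem' := by
        rintro _ ⟨c, hc, q, hq, rfl⟩
        refine ⟨cj q⁻¹ c⁻¹, hCL _ (L.inv_mem (h.BL (h.QB hq))) _ (C.inv_mem hc), q⁻¹,
          Q.inv_mem hq, ?_⟩
        simp [cj, mul_assoc] }
  have hLC : L ≤ M := by
    obtain ⟨m, hm, hmv⟩ := h.moves
    apply h.gen m hm hmv
    · intro x hx
      obtain ⟨v, hv, q, hq, rfl⟩ := h.nc_B hb hnc hx
      exact ⟨cj b v, ⟨h.BL (h.cjB hb (h.VB hv)), hVY v hv⟩, q, hq, rfl⟩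
    · intro x hx
      obtain ⟨v, hv, q, hq, rfl⟩ := h.nc_B hb hnc hx
      have e : m * (cj b v * q) * m⁻¹ = cj m (cj b v) * cj m q := by simp [cj, mul_assoc]
      rw [e]
      exact ⟨cj m (cj b v), hCL m hm _ ⟨h.BL (h.cjB hb (h.VB hv)), hVY v hv⟩, cj m q,
        h.cjQ hm hq, rfl⟩
  have hQ2' : IsPGroup 2 Q := hT2.to_le (h.QB.trans hBT)
  have hodd : ∀ g ∈ L, Odd (orderOf g) → g ∈ C := by
    intro g hg hgo
    have hN : (C.subgroupOf L).Normal := by
      constructor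
      intro c hc l
      exact hCL l l.2 c hc
    have h2 : IsPGroup 2 (↥L ⧸ C.subgroupOf L) := by
      apply hQ2'.of_surjective
        ((QuotientGroup.mk' (C.subgroupOf L)).comp (Subgroup.inclusion (h.QB.trans h.BL)))
      intro x
      obtain ⟨⟨l, hl⟩, rfl⟩ := QuotientGroup.mk'_surjective _ x
      obtain ⟨c, hc, q, hq, rfl⟩ := hLC hl
      refine ⟨⟨q, hq⟩, ?_⟩
      have e : (⟨c * q, hl⟩ : L) = (⟨c, hc.1⟩ : L) * (⟨q, h.BL (h.QB hq)⟩ : L) := rfl
      rw [e, map_mul]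
      have h3 : QuotientGroup.mk' (C.subgroupOf L) (⟨c, hc.1⟩ : L) = 1 := by
        rw [QuotientGroup.mk'_apply, QuotientGroup.eq_one_iff]
        exact hc
      rw [h3, one_mul]
      rfl
    obtain ⟨k, hk⟩ := h2 (QuotientGroup.mk' (C.subgroupOf L) (⟨g, hg⟩ : L))
    rw [← map_pow, QuotientGroup.mk'_apply, QuotientGroup.eq_one_iff,
      Subgroup.mem_subgroupOf] at hk
    have hk' : g ^ 2 ^ k ∈ C := by simpa using hk
    have h3 : Nat.Coprime (orderOf g) (2 ^ k) :=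
      Nat.Coprime.pow_right k (Nat.coprime_two_right.2 hgo)
    have h4 : g ∈ Subgroup.zpowers (g ^ 2 ^ k) := by
      rw [Subgroup.mem_zpowers_iff]
      obtain ⟨n, hn⟩ := exists_pow_eq_self_of_coprime h3.symm
      exact ⟨n, by rw [zpow_natCast]; exact hn⟩
    exact (Subgroup.zpowers_le.2 hk') h4
  have hL2 : IsPGroup 2 L := by
    apply isTwo_of_odd
    intro g hg hgo
    have hgC := hodd g hg hgo
    have hgY : g ∈ Y := by
      apply hYc
      intro y hy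
      have hc1 := hcomm g hg y hy
      have hcY : cj g y * y⁻¹ ∈ Y := Y.mul_mem (hYL g hg y hy) (Y.inv_mem hy)
      obtain ⟨c, hc⟩ : ∃ c, c = cj g y * y⁻¹ := ⟨_, rfl⟩
      rw [← hc] at hc1 hcY
      have hgc : cj g c = c := hgC.2 c hcY hc1
      have hgy : cj g y = c * y := by rw [hc]; simp
      have hpow : ∀ n : ℕ, cj (g ^ n) y = c ^ n * y := by
        intro n
        induction n with
        | zero => simp [cj]
        | succ n ih =>
          have h5 : cj g (c ^ n) = c ^ n := by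
            have : cj g (c ^ n) = (cj g c) ^ n := by
              simp only [cj]; rw [conj_pow]
            rw [this, hgc]
          rw [pow_succ', cj_mul, ih, cj_prod, h5, hgy, pow_succ', ← mul_assoc, ← pow_succ,
            pow_succ']
      have h6 := hpow (orderOf g)
      rw [pow_orderOf_eq_one, cj_one] at h6
      have h7 : c ^ orderOf g = 1 := by
        have := congrArg (· * y⁻¹) h6
        simpa using this.symm
      have h8 := odd_eq_one hY2 hcY hgo h7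
      rw [h8, one_mul] at hgy
      exact cj_eq_self.1 hgy
    exact odd_eq_one hY2 hgY hgo (pow_orderOf_eq_one g)
  -- the contradiction
  obtain ⟨d, hd, hd1⟩ := h.exists_ne
  apply hd1
  have hle : D ≤ ⊥ := by
    refine h.Dgen.trans ?_
    rw [Subgroup.closure_le]
    rintro x ⟨v, hv, y, hy, rfl⟩
    have hyQ : y ∈ Q :=
      h.two_cap hex hL2 (fun l hl s hs => L.mul_mem (L.mul_mem hl hs) (L.inv_mem hl)) (h.BL hy) hy
    have := h.VcQ y hyQ v hv
    show v * y * v⁻¹ * y⁻¹ = 1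
    rw [← this]; simp
  exact Subgroup.mem_bot.1 (hle hd)

/-- **The final contradiction.** -/
theorem kill [Finite G] (hex : Ex L B Q V Z) {T : Subgroup G}
    (hTA : T ≤ A) (hT2 : IsPGroup 2 T) (hBT : B ≤ T) (hodd : ¬ 2 ∣ T.relIndex A)
    (hTV : ∀ t ∈ T, Com V t)
    (hchar : ∀ E : Subgroup G, E ≠ ⊥ → E ≤ B → (∀ t ∈ T, ∀ e ∈ E, cj t e ∈ E) →
      ∃ Y : Subgroup G, Y ≤ T ∧ (∀ g : G, (∀ e ∈ E, cj g e ∈ E) → ∀ y ∈ Y, cj g y ∈ Y) ∧
        (∀ g : G, (∀ y ∈ Y, g * y = y * g) → g ∈ Y)) : False := by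
  classical
  obtain ⟨b, hb, v, hv, u, hu, hne⟩ := h.exists_noncommuting
  have hnc : ¬ Com V b := fun hcom => hne (hcom v hv u hu)
  have hout := fun a (ha : a ∈ A) => h.kill_out hex hTA hT2 hBT hTV hchar hb hnc ha
  have hnb : ∀ c : G, ¬ Com V (c⁻¹ * (c * b)) := by
    intro c; rwa [inv_mul_cancel_left]
  -- three maps
  let fA : A → Subgroup G := fun a => Dm Q a
  let f1 : T → Subgroup G := fun t => Dm Q t
  let f2 : T → Subgroup G := fun t => Dm Q (t * b)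
  have hA : Nat.card (Set.range fA) = (NQ Q).relIndex A := card_range fA (fun k k' => Dm_eq_iff)
  have h1 : Nat.card (Set.range f1) = (NQ Q).relIndex T := card_range f1 (fun k k' => Dm_eq_iff)
  have h2 : Nat.card (Set.range f2) = (NQ Q).relIndex T := by
    apply card_range f2
    intro k k'
    rw [mem_NQ, ← Dm_eq_iff]
    have hk := hTA k.2
    have hk' := hTA k'.2
    constructor
    · intro he
      have h3 := h.nc_congr (A.mul_mem hk' hb) hk he (h.nc_symm (hnb k))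
      exact h.nb_eq hex (A.mul_mem hk' hb) hk hk' h3 (h.nc_symm (hnb k'))
    · intro he
      have h3 := h.nc_congr hk' (A.mul_mem hk hb) he (hnb k)
      exact h.nb_eq hex hk' (A.mul_mem hk hb) (A.mul_mem hk' hb) h3 (hnb k')
  have hU : Set.range fA = Set.range f1 ∪ Set.range f2 := by
    ext X
    constructor
    · rintro ⟨a, rfl⟩
      obtain ⟨t, ht, he | he⟩ := hout a a.2
      · exact Or.inl ⟨⟨t, ht⟩, he.symm⟩
      · exact Or.inr ⟨⟨t, ht⟩, he.symm⟩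
    · rintro (⟨t, rfl⟩ | ⟨t, rfl⟩)
      · exact ⟨⟨t, hTA t.2⟩, rfl⟩
      · exact ⟨⟨t * b, A.mul_mem (hTA t.2) hb⟩, rfl⟩
  have hdis : Disjoint (Set.range f1) (Set.range f2) := by
    rw [Set.disjoint_left]
    rintro X ⟨t, rfl⟩ ⟨s, hs⟩
    have hs' : Dm Q (s * b) = Dm Q t := hs
    -- `V ^ s` does not commute with `V ^ (s b)`, so not with `V ^ t`
    have h3 := h.nc_congr (hTA t.2) (hTA s.2) hs' (h.nc_symm (hnb s))
    exact h3 (hTV _ (T.mul_mem (T.inv_mem t.2) s.2))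
  have hcard : Nat.card (Set.range fA) = Nat.card (Set.range f1) + Nat.card (Set.range f2) := by
    have e1 : Nat.card (Set.range fA) = (Set.range f1 ∪ Set.range f2).ncard := by
      rw [← hU]; rfl
    rw [e1, Set.ncard_union_eq hdis (Set.finite_range f1) (Set.finite_range f2)]
    rfl
  rw [hA, h1, h2] at hcard
  -- the indices
  apply hodd
  have hne0 : (NQ Q).relIndex T ≠ 0 := by
    rw [← h1]
    have : Nonempty (Set.range f1) := ⟨⟨f1 1, 1, rfl⟩⟩
    have : Finite (Set.range f1) := Set.finite_range f1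
    exact Nat.card_pos.ne'
  have i1 := Subgroup.relIndex_mul_relIndex (NQ Q ⊓ T) T A inf_le_right hTA
  have i2 := Subgroup.relIndex_mul_relIndex (NQ Q ⊓ T) (NQ Q ⊓ A) A
    (inf_le_inf_left _ hTA) inf_le_right
  rw [Subgroup.inf_relIndex_right] at i1 i2
  rw [← i2, hcard] at i1
  have i3 : (NQ Q).relIndex T * T.relIndex A =
      (NQ Q).relIndex T * (2 * (NQ Q ⊓ T).relIndex (NQ Q ⊓ A)) := by
    rw [i1]; ring
  exact ⟨_, Nat.eq_of_mul_eq_mul_left (Nat.pos_of_ne_zero hne0) i3⟩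

end Dt

end Cfsg.Agent.PushGen
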