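import Cfsg.Agent.Omega.PushUp.Main

/-!
# Pushing up for 2-groups, without a hypothesis on the group `A`

`B` is normal in `A`, `L` is a "block" over `B`: it
normalises the elementary abelian group `V` and `Q = C_B(V)`; `[V, B] = D ≤ Z ≤ V`,
`C_V(b) = Z` for all `b ∈ B ∖ Q` and `|B : Q| ≤ |V : Z|`.  If no nontrivial subgroup of `B` is
normalised by `L` and by `A`, then `V` does not commute with some `A`-conjugate.

This generalises `Cfsg.Agent.Omega.PushUp` (where `A` has a subgroup `T` of index at most two, with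
`V` "almost normal" in `T`).  This file excludes `b ≥ 3` (distance of the first noncommuting
pair); `b = 2` and the theorem are in `Cfsg.Agent.PushGen.Last`.

(helper54, for S1823.)
-/

set_option autoImplicit false

namespace Cfsg.Agent.PushGen

open Cfsg.Agent.MinSimple.PushUp
open Cfsg.Agent.Omega.PushUp (Mv Dm mem_Dm cj_mem_Dm)

variable {G : Type*} [Group G]

/-- The hypotheses of the pushing up theorem. -/
structure Dt (A L B Q V Z D : Subgroup G) : Prop where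
  BA : B ≤ A
  BL : B ≤ L
  QB : Q ≤ B
  VQ : V ≤ Q
  ZV : Z ≤ V
  DZ : D ≤ Z
  AnB : ∀ a ∈ A, ∀ b ∈ B, a * b * a⁻¹ ∈ B
  AnZ : ∀ a ∈ A, ∀ b ∈ Z, a * b * a⁻¹ ∈ Z
  LnQ : ∀ l ∈ L, ∀ q ∈ Q, l * q * l⁻¹ ∈ Q
  LnV : ∀ l ∈ L, ∀ v ∈ V, l * v * l⁻¹ ∈ V
  BcZ : ∀ b ∈ B, ∀ y ∈ Z, b * y = y * b
  Vsq : ∀ v ∈ V, v * v = 1
  QcV : ∀ b ∈ B, (∀ v ∈ V, b * v = v * b) → b ∈ Q
  VcQ : ∀ q ∈ Q, ∀ v ∈ V, q * v = v * q
  Bsq : ∀ b ∈ B, b * b ∈ Q
  comm : ∀ v ∈ V, ∀ b ∈ B, v * b * v⁻¹ * b⁻¹ ∈ D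
  Dgen : D ≤ Subgroup.closure {x | ∃ v ∈ V, ∃ b ∈ B, x = v * b * v⁻¹ * b⁻¹}
  ncomm : ∀ v ∈ V, v ∉ Z → ∀ b ∈ B, b ∉ Q → v * b ≠ b * v
  card : Q.relIndex B ≤ Z.relIndex V
  gen : ∀ l ∈ L, Mv D Z l → ∀ K : Subgroup G, B ≤ K → (∀ b ∈ B, l * b * l⁻¹ ∈ K) → L ≤ K
  moves : ∃ l ∈ L, Mv D Z l
  mvinv : ∀ l ∈ L, Mv D Z l → Mv D Z l⁻¹
  ti : ∀ l ∈ L, Mv D Z l → ∀ b ∈ B, b ∉ Q → Mv D Z (l⁻¹ * b * l)
  core : ∀ R : Subgroup G, R ≤ B → (∀ l ∈ L, ∀ r ∈ R, l * r * l⁻¹ ∈ R) →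
    (∀ a ∈ A, ∀ r ∈ R, a * r * a⁻¹ ∈ R) → R = ⊥

variable {A L B Q V Z D : Subgroup G}

namespace Dt

variable (h : Dt A L B Q V Z D)

include h

theorem VB : V ≤ B := h.VQ.trans h.QB

theorem DV : D ≤ V := h.DZ.trans h.ZV

theorem Vinv {v : G} (hv : v ∈ V) : v⁻¹ = v := inv_eq_of_mul_eq_one_left (h.Vsq v hv)

theorem cjB {a b : G} (ha : a ∈ A) (hb : b ∈ B) : cj a b ∈ B := h.AnB a ha b hb

theorem cjB_inv {a b : G} (ha : a ∈ A) (hb : cj a b ∈ B) : b ∈ B := by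
  have := h.cjB (A.inv_mem ha) hb
  rwa [cj_inv_cj] at this

theorem cjZ {a b : G} (ha : a ∈ A) (hb : b ∈ Z) : cj a b ∈ Z := h.AnZ a ha b hb

theorem cjQ {l b : G} (hl : l ∈ L) (hb : b ∈ Q) : cj l b ∈ Q := h.LnQ l hl b hb

theorem cjV {l b : G} (hl : l ∈ L) (hb : b ∈ V) : cj l b ∈ V := h.LnV l hl b hb

omit h in
theorem cjL {l g : G} (hl : l ∈ L) (hg : g ∈ L) : cj l g ∈ L :=
  L.mul_mem (L.mul_mem hl hg) (L.inv_mem hl)

/-- commutator of `v ∈ V` and `b ∈ B`, conjugation form -/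
theorem comm' {v b : G} (hv : v ∈ V) (hb : b ∈ B) : ∃ d ∈ D, cj v b = d * b :=
  ⟨v * b * v⁻¹ * b⁻¹, h.comm v hv b hb, by simp [cj, mul_assoc]⟩

theorem commB {v b : G} (hv : v ∈ V) (hb : b ∈ B) : ∃ d ∈ D, cj b v = d * v := by
  refine ⟨(v * b * v⁻¹ * b⁻¹)⁻¹, D.inv_mem (h.comm v hv b hb), ?_⟩
  simp [cj, mul_assoc]

theorem exists_ne : ∃ d ∈ D, d ≠ 1 := by
  obtain ⟨l, hl, d, hd, hdZ⟩ := h.moves
  refine ⟨d, hd, ?_⟩
  rintro rfl
  apply hdZ
  have : cj l 1 = 1 := by simp [cj]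
  rw [this]; exact Z.one_mem

section

variable {n : ℕ} (hc : ∀ m < n, ∀ w ∈ W A L m, Com V w)

include hc

theorem memB {m : ℕ} (hm : m ≤ n) {w : G} (hw : w ∈ W A L m) {v : G} (hv : v ∈ V) :
    cj w⁻¹ v ∈ B := by
  induction m generalizing w with
  | zero => exact h.cjB (A.inv_mem hw) (h.VB hv)
  | succ m ih =>
    obtain ⟨w', hw', l, hl, a, ha, rfl⟩ := hw
    have h1 := ih (by omega) hw'
    have h2 : cj w'⁻¹ v ∈ Q := by
      apply h.QcV _ h1
      intro u hu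
      have := (hc m (by omega) w' hw').inv u hu v hv
      exact this.symm
    have h3 : cj l⁻¹ (cj w'⁻¹ v) ∈ Q := h.cjQ (L.inv_mem hl) h2
    have h4 : cj a⁻¹ (cj l⁻¹ (cj w'⁻¹ v)) ∈ B := h.cjB (A.inv_mem ha) (h.QB h3)
    have e : (w' * l * a)⁻¹ = a⁻¹ * (l⁻¹ * w'⁻¹) := by simp [mul_assoc]
    rw [e, cj_mul, cj_mul]
    exact h4

theorem memB' {m : ℕ} (hm : m ≤ n) {w : G} (hw : w ∈ W A L m) {v : G} (hv : v ∈ V) :
    cj w v ∈ B := by
  have := h.memB hc hm (W_inv hw) hv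
  simpa using this

/-- in a critical pair there is an element of `V` which acts nontrivially -/
theorem crit_elt {w : G} (hw : w ∈ W A L n) (hnc : ¬ Com V w) :
    ∃ v ∈ V, cj w v ∈ B ∧ cj w v ∉ Q := by
  simp only [Com] at hnc
  push Not at hnc
  obtain ⟨v, hv, u, hu, hne⟩ := hnc
  exact ⟨u, hu, h.memB' hc le_rfl hw hu, fun hq => hne (h.VcQ _ hq v hv).symm⟩

/-- centraliser in a critical pair -/
theorem crit_Z {w : G} (hw : w ∈ W A L n) (hnc : ¬ Com V w) {v : G} (hv : v ∈ V)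
    (hcv : ∀ u ∈ V, v * cj w u = cj w u * v) : v ∈ Z := by
  obtain ⟨u, hu, hB, hQ⟩ := h.crit_elt hc hw hnc
  by_contra hZ
  exact h.ncomm v hv hZ _ hB hQ (hcv u hu)

/-- the injection of coset spaces given by a critical pair -/
theorem crit_inj {w : G} (hw : w ∈ W A L n) (hnc : ¬ Com V w) :
    ∃ f : V ⧸ Z.subgroupOf V → B ⧸ Q.subgroupOf B, Function.Injective f ∧
      ∀ v : V, ∃ hB : cj w v ∈ B, f (Quotient.mk'' v) = Quotient.mk'' ⟨cj w v, hB⟩ := by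
  have hnc' : ¬ Com V w⁻¹ := fun hcom => hnc hcom.of_inv
  let f0 : V → B := fun v => ⟨cj w v, h.memB' hc le_rfl hw v.2⟩
  let f : V ⧸ Z.subgroupOf V → B ⧸ Q.subgroupOf B :=
    Quotient.map' f0 (by
      intro v₁ v₂ hv
      rw [QuotientGroup.leftRel_apply] at hv ⊢
      rw [Subgroup.mem_subgroupOf] at hv ⊢
      have e : (((f0 v₁)⁻¹ * f0 v₂ : B) : G) = cj w ((v₁⁻¹ * v₂ : V) : G) := by
        simp [f0, cj, mul_assoc]
      rw [e]
      apply h.QcV _ (h.memB' hc le_rfl hw (v₁⁻¹ * v₂ : V).2)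
      intro u hu
      have h1 : cj w⁻¹ u ∈ B := h.memB hc le_rfl hw hu
      have h2 := h.BcZ _ h1 _ hv
      have h3 := (cj_comm (g := w)).2 h2
      rw [cj_cj_inv] at h3
      exact h3.symm)
  have hf : Function.Injective f := by
    intro x y
    induction x using Quotient.inductionOn' with | _ v₁
    induction y using Quotient.inductionOn' with | _ v₂
    intro hxy
    have hxy' : (Quotient.mk'' (f0 v₁) : B ⧸ Q.subgroupOf B) = Quotient.mk'' (f0 v₂) := hxy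
    rw [Quotient.eq''] at hxy' ⊢
    rw [QuotientGroup.leftRel_apply] at hxy' ⊢
    rw [Subgroup.mem_subgroupOf] at hxy' ⊢
    have e : (((f0 v₁)⁻¹ * f0 v₂ : B) : G) = cj w ((v₁⁻¹ * v₂ : V) : G) := by
      simp [f0, cj, mul_assoc]
    rw [e] at hxy'
    apply h.crit_Z hc (W_inv hw) hnc' (v₁⁻¹ * v₂ : V).2
    intro u hu
    have h1 := h.VcQ _ hxy' u hu
    have h2 := (cj_comm (g := w⁻¹)).2 h1
    rw [cj_inv_cj] at h2
    exact h2
  exact ⟨f, hf, fun v => ⟨h.memB' hc le_rfl hw v.2, rfl⟩⟩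

/-- a critical conjugate covers `B / Q` -/
theorem crit_B [Finite G] {w : G} (hw : w ∈ W A L n) (hnc : ¬ Com V w) {b : G} (hb : b ∈ B) :
    ∃ v ∈ V, ∃ q ∈ Q, b = cj w v * q := by
  obtain ⟨f, hf, hfe⟩ := h.crit_inj hc hw hnc
  have hcard : Nat.card (B ⧸ Q.subgroupOf B) ≤ Nat.card (V ⧸ Z.subgroupOf V) := h.card
  have hbij := Function.Injective.bijective_of_nat_card_le hf hcard
  obtain ⟨x, hx⟩ := hbij.2 (Quotient.mk'' ⟨b, hb⟩)
  induction x using Quotient.inductionOn' with | _ v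
  obtain ⟨hB, hv⟩ := hfe v
  rw [hv, Quotient.eq'', QuotientGroup.leftRel_apply, Subgroup.mem_subgroupOf] at hx
  refine ⟨v, v.2, (cj w v)⁻¹ * b, ?_, by simp⟩
  simpa using hx

/-- a critical pair gives `|V : Z| = |B : Q|` -/
theorem crit_card [Finite G] {w : G} (hw : w ∈ W A L n) (hnc : ¬ Com V w) :
    Nat.card (V ⧸ Z.subgroupOf V) ≤ Nat.card (B ⧸ Q.subgroupOf B) := by
  obtain ⟨f, hf, -⟩ := h.crit_inj hc hw hnc
  exact Nat.card_le_card_of_injective f hf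

/-- the commutator group of a critical pair -/
theorem crit_D [Finite G] {w : G} (hw : w ∈ W A L n) (hnc : ¬ Com V w) {d : G} (hd : d ∈ D) :
    cj w d ∈ D := by
  have hnc' : ¬ Com V w⁻¹ := fun hcom => hnc hcom.of_inv
  have key : Subgroup.closure {x | ∃ v ∈ V, ∃ b ∈ B, x = v * b * v⁻¹ * b⁻¹} ≤
      D.comap (MulAut.conj w).toMonoidHom := by
    rw [Subgroup.closure_le]
    rintro x ⟨v, hv, b, hb, rfl⟩
    obtain ⟨v', hv', q, hq, rfl⟩ := h.crit_B hc (W_inv hw) hnc' hb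
    have hqv : q * v⁻¹ = v⁻¹ * q := h.VcQ q hq _ (V.inv_mem hv)
    have e1 : v * (cj w⁻¹ v' * q) * v⁻¹ * (cj w⁻¹ v' * q)⁻¹ =
        v * cj w⁻¹ v' * v⁻¹ * (cj w⁻¹ v')⁻¹ := by
      calc v * (cj w⁻¹ v' * q) * v⁻¹ * (cj w⁻¹ v' * q)⁻¹
          = v * cj w⁻¹ v' * (q * v⁻¹) * q⁻¹ * (cj w⁻¹ v')⁻¹ := by simp [mul_assoc]
        _ = v * cj w⁻¹ v' * (v⁻¹ * q) * q⁻¹ * (cj w⁻¹ v')⁻¹ := by rw [hqv]
        _ = v * cj w⁻¹ v' * v⁻¹ * (cj w⁻¹ v')⁻¹ := by simp [mul_assoc]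
    have e2 : cj w (v * cj w⁻¹ v' * v⁻¹ * (cj w⁻¹ v')⁻¹) =
        (v' * cj w v * v'⁻¹ * (cj w v)⁻¹)⁻¹ := by
      simp [cj, mul_assoc]
    have h1 := h.comm v' hv' (cj w v) (h.memB' hc le_rfl hw hv)
    have h2 : cj w (v * (cj w⁻¹ v' * q) * v⁻¹ * (cj w⁻¹ v' * q)⁻¹) ∈ D := by
      rw [e1, e2]; exact D.inv_mem h1
    simpa [cj] using h2
  have := key (h.Dgen hd)
  simpa [cj] using this

end

/-! ### The groups generated by conjugates of `V` -/

theorem RP_le (P : G → Prop) : Data.RP A V P ≤ B := by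
  rw [Data.RP, Subgroup.closure_le]
  rintro x ⟨t, ht, -, v, hv, rfl⟩
  exact h.cjB ht (h.VB hv)

/-- no `L`-invariance for the full family -/
theorem not_full (hL : ∀ l ∈ L, ∀ r ∈ Data.RP A V (fun _ => True),
    l * r * l⁻¹ ∈ Data.RP A V (fun _ => True)) : False := by
  have h1 := h.core _ (h.RP_le _) hL Data.RP_A
  obtain ⟨d, hd, hd1⟩ := h.exists_ne
  have h2 : d ∈ Data.RP A V (fun _ => True) := by
    have := Data.mem_RP (A := A) (V := V) (P := fun _ => True) A.one_mem trivial (h.DV hd)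
    rwa [cj_one] at this
  rw [h1] at h2
  exact hd1 (by simpa using h2)

section

variable {n : ℕ} (hc : ∀ m < n, ∀ w ∈ W A L m, Com V w)

include hc

/-- the key normalisation argument -/
theorem norm_core [Finite G] (P : G → Prop) (hP : P 1) {w : G} (hw : w ∈ W A L n)
    (hnc : ¬ Com V w) {l₀ : G} (hl₀ : l₀ ∈ L) (hm : Mv D Z l₀)
    (hall : ∀ t ∈ A, P t → ∀ v ∈ V, cj w⁻¹ (cj l₀ (cj t v)) ∈ B) :
    ∀ l ∈ L, ∀ r ∈ Data.RP A V P, l * r * l⁻¹ ∈ Data.RP A V P := by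
  have hVR : V ≤ Data.RP A V P := by
    intro v hv
    have := Data.mem_RP (A := A) (V := V) (P := P) A.one_mem hP hv
    rwa [cj_one] at this
  -- `cj w v₁` normalises the conjugate
  have hu1 : ∀ v₁ ∈ V, ∀ x ∈ Data.RP A V P, cj (cj l₀⁻¹ (cj w v₁)) x ∈ Data.RP A V P := by
    intro v₁ hv₁
    apply Data.closure_conj
    rintro x ⟨t, ht, hPt, v, hv, rfl⟩
    have h1 := hall t ht hPt v hv
    obtain ⟨d, hd, h2⟩ := h.comm' hv₁ h1
    have key : cj (cj w v₁) (cj l₀ (cj t v)) = cj w d * cj l₀ (cj t v) := by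
      rw [cj_cj, h2, cj_prod, cj_cj_inv]
    have e : cj (cj l₀⁻¹ (cj w v₁)) (cj t v) = cj l₀⁻¹ (cj (cj w v₁) (cj l₀ (cj t v))) := by
      simp [cj, mul_assoc]
    rw [e, key, cj_prod, cj_inv_cj]
    exact (Data.RP A V P).mul_mem
      (hVR (h.cjV (L.inv_mem hl₀) (h.DV (h.crit_D hc hw hnc hd)))) (Data.mem_RP ht hPt hv)
  have hB1 : ∀ b ∈ B, ∀ x ∈ Data.RP A V P, cj b x ∈ Data.RP A V P := by
    intro b hb
    apply Data.closure_conj
    rintro x ⟨t, ht, hPt, v, hv, rfl⟩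
    have hb' : cj t⁻¹ b ∈ B := h.cjB (A.inv_mem ht) hb
    have e : cj b (cj t v) = cj t (cj (cj t⁻¹ b) v) := by simp [cj, mul_assoc]
    rw [e]
    exact Data.mem_RP ht hPt (h.cjV (h.BL hb') hv)
  -- the subgroup of elements of `G` whose `l₀`-conjugate normalises
  let N : Subgroup G :=
    { carrier := {g | (∀ x ∈ Data.RP A V P, cj (cj l₀⁻¹ g) x ∈ Data.RP A V P) ∧
        (∀ x ∈ Data.RP A V P, cj (cj l₀⁻¹ g)⁻¹ x ∈ Data.RP A V P)}
      one_mem' := by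
        constructor
        · intro x hx; simpa [cj] using hx
        · intro x hx; simpa [cj] using hx
      mul_mem' := by
        rintro a b ⟨ha1, ha2⟩ ⟨hb1, hb2⟩
        constructor
        · intro x hx
          rw [cj_prod, cj_mul]
          exact ha1 _ (hb1 x hx)
        · intro x hx
          rw [cj_prod, mul_inv_rev, cj_mul]
          exact hb2 _ (ha2 x hx)
      inv_mem' := by
        rintro a ⟨ha1, ha2⟩
        constructor
        · intro x hx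
          rw [cj_inv]; exact ha2 x hx
        · intro x hx
          rw [cj_inv, inv_inv]; exact ha1 x hx }
  have hLN : L ≤ N := by
    apply h.gen l₀ hl₀ hm N
    · intro b hb
      obtain ⟨v, hv, q, hq, rfl⟩ := h.crit_B hc hw hnc hb
      apply N.mul_mem
      · refine ⟨hu1 v hv, ?_⟩
        have e : (cj l₀⁻¹ (cj w v))⁻¹ = cj l₀⁻¹ (cj w v⁻¹) := by rw [cj_inv, cj_inv]
        rw [e]
        exact hu1 _ (V.inv_mem hv)
      · have hq' : cj l₀⁻¹ q ∈ B := h.QB (h.cjQ (L.inv_mem hl₀) hq)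
        exact ⟨hB1 _ hq', hB1 _ (B.inv_mem hq')⟩
    · intro b hb
      have e : cj l₀⁻¹ (l₀ * b * l₀⁻¹) = b := cj_inv_cj l₀ b
      refine ⟨?_, ?_⟩
      · intro x hx
        rw [e]; exact hB1 b hb x hx
      · intro x hx
        rw [e]; exact hB1 b⁻¹ (B.inv_mem hb) x hx
  intro l hl r hr
  have h5 := (hLN (show cj l₀ l ∈ L from L.mul_mem (L.mul_mem hl₀ hl) (L.inv_mem hl₀))).1 r hr
  rw [cj_inv_cj] at h5
  exact h5

/-- an active element exists -/
theorem exists_active [Finite G] {w : G} (hw : w ∈ W A L n) (hnc : ¬ Com V w)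
    {l₀ : G} (hl₀ : l₀ ∈ L) (hm : Mv D Z l₀) :
    ∃ t ∈ A, ∃ v ∈ V, cj w⁻¹ (cj l₀ (cj t v)) ∉ B := by
  by_contra hcon
  push Not at hcon
  exact h.not_full (h.norm_core hc (fun _ => True) trivial hw hnc hl₀ hm
    (fun t ht _ v hv => hcon t ht v hv))

theorem active_crit {m : ℕ} (hmn : m + 1 = n) {w₁ l a : G} (hw₁ : w₁ ∈ W A L m) (hl : l ∈ L)
    (ha : a ∈ A) {l₀ : G} (hl₀ : l₀ ∈ L) {t v : G} (ht : t ∈ A) (hv : v ∈ V)
    (hact : cj (w₁ * l * a)⁻¹ (cj l₀ (cj t v)) ∉ B) :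
    ¬ Com V ((l₀ * t)⁻¹ * w₁) := by
  intro hcom
  apply hact
  have hmem : (l₀ * t)⁻¹ * w₁ ∈ W A L n := by
    have := W_cons hw₁ (L.inv_mem hl₀) (A.inv_mem ht)
    rw [hmn] at this
    simpa [mul_assoc] using this
  have h1 := h.memB hc le_rfl hmem hv
  have h2 : cj ((l₀ * t)⁻¹ * w₁)⁻¹ v ∈ Q := by
    apply h.QcV _ h1
    intro u hu
    exact (hcom.inv u hu v hv).symm
  have h3 := h.cjQ (L.inv_mem hl) h2
  have h4 := h.cjB (A.inv_mem ha) (h.QB h3)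
  have e : cj (w₁ * l * a)⁻¹ (cj l₀ (cj t v)) = cj a⁻¹ (cj l⁻¹ (cj ((l₀ * t)⁻¹ * w₁)⁻¹ v)) := by
    simp [cj, mul_assoc]
  rw [e]
  exact h4

theorem active_cent [Finite G] (hn : 0 < n) {m : ℕ} (hmn : m + 1 = n) {w₁ l a : G}
    (hw₁ : w₁ ∈ W A L m) (hl : l ∈ L) (ha : a ∈ A) (hnc : ¬ Com V (w₁ * l * a)) {l₀ : G}
    (hl₀ : l₀ ∈ L) (hm : Mv D Z l₀) {t v : G} (ht : t ∈ A) (hv : v ∈ V)
    (hact : cj (w₁ * l * a)⁻¹ (cj l₀ (cj t v)) ∉ B) :
    Dm D w₁ = Dm D t ∧ ∀ l' ∈ L, ∀ d ∈ D, cj l' (cj t d) = cj t d := by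
  have hw : w₁ * l * a ∈ W A L n := by rw [← hmn]; exact ⟨w₁, hw₁, l, hl, a, ha, rfl⟩
  have hcr := h.active_crit hc hmn hw₁ hl ha hl₀ ht hv hact
  have hmem : (l₀ * t)⁻¹ * w₁ ∈ W A L n := by
    have := W_cons hw₁ (L.inv_mem hl₀) (A.inv_mem ht)
    rw [hmn] at this
    simpa [mul_assoc] using this
  have hcr' : ¬ Com V ((l₀ * t)⁻¹ * w₁)⁻¹ := fun hcom => hcr hcom.of_inv
  -- the elements `cj l₀ (cj t d)` are of the form `cj w₁ d'`
  have hz' : ∀ d ∈ D, ∃ d' ∈ D, cj l₀ (cj t d) = cj w₁ d' := by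
    intro d hd
    refine ⟨cj ((l₀ * t)⁻¹ * w₁)⁻¹ d, h.crit_D hc (W_inv hmem) hcr' hd, ?_⟩
    simp [cj, mul_assoc]
  have hcent : ∀ d ∈ D, ∀ l' ∈ L, cj l' (cj l₀ (cj t d)) = cj l₀ (cj t d) := by
    intro d hd
    obtain ⟨d', hd', he⟩ := hz' d hd
    have hLc : L ≤ Subgroup.centralizer {cj l₀ (cj t d)} := by
      apply h.gen l₀ hl₀ hm
      · intro b hb
        rw [Subgroup.mem_centralizer_iff]
        intro y hy
        rw [Set.mem_singleton_iff] at hy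
        rw [hy]
        obtain ⟨v', hv', q, hq, rfl⟩ := h.crit_B hc hw hnc hb
        have k1 : cj l₀ (cj t d) * cj (w₁ * l * a) v' = cj (w₁ * l * a) v' * cj l₀ (cj t d) := by
          rw [he]
          have e : cj (w₁ * l * a) v' = cj w₁ (cj l (cj a v')) := by rw [cj_mul, cj_mul]
          rw [e, cj_comm]
          have h1 := hc 0 hn a ha (cj l⁻¹ d') (h.cjV (L.inv_mem hl) (h.DV hd')) v' hv'
          have h2 := (cj_comm (g := l)).2 h1
          rw [cj_cj_inv] at h2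
          exact h2
        have k2 : q * cj l₀ (cj t d) = cj l₀ (cj t d) * q :=
          h.VcQ q hq _ (h.cjV hl₀ (h.ZV (h.cjZ ht (h.DZ hd))))
        exact (show Commute (cj l₀ (cj t d)) (cj (w₁ * l * a) v' * q) from
          Commute.mul_right k1 k2.symm)
      · intro b hb
        rw [Subgroup.mem_centralizer_iff]
        intro y hy
        rw [Set.mem_singleton_iff] at hy
        rw [hy]
        have : cj t d ∈ Z := h.cjZ ht (h.DZ hd)
        exact (cj_comm (g := l₀)).2 (h.BcZ b hb _ this).symm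
    intro l' hl'
    rw [cj_eq_self]
    have := Subgroup.mem_centralizer_iff.1 (hLc hl') _ rfl
    exact this.symm
  have h6 : ∀ d ∈ D, cj l₀ (cj t d) = cj t d := by
    intro d hd
    have := hcent d hd l₀⁻¹ (L.inv_mem hl₀)
    rw [cj_inv_cj] at this
    exact this.symm
  refine ⟨?_, ?_⟩
  · apply le_antisymm
    · intro x hx
      rw [mem_Dm] at hx
      have h7 := h.crit_D hc hmem hcr hx
      have e : cj ((l₀ * t)⁻¹ * w₁) (cj w₁⁻¹ x) = cj t⁻¹ (cj l₀⁻¹ x) := by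
        simp [cj, mul_assoc]
      rw [e] at h7
      have h8 := h6 _ h7
      rw [cj_cj_inv, cj_cj_inv] at h8
      rw [← h8] at h7
      rwa [mem_Dm]
    · intro x hx
      rw [mem_Dm] at hx
      obtain ⟨d', hd', he⟩ := hz' _ hx
      rw [h6 _ hx, cj_cj_inv] at he
      rw [he]
      exact cj_mem_Dm hd'
  · intro l' hl' d hd
    have := hcent d hd l' hl'
    rwa [h6 d hd] at this

end

/-! ### Mates -/

omit h in
/-- `τ` is a mate. -/
structure Mate (A L V D : Subgroup G) (τ : G) : Prop where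
  mem : τ ∈ A
  cent : ∀ l ∈ L, ∀ d ∈ D, cj l (cj τ d) = cj τ d
  norm : ∀ l ∈ L, ∀ r ∈ Data.RP A V (fun t => Dm D t ≠ Dm D τ),
    l * r * l⁻¹ ∈ Data.RP A V (fun t => Dm D t ≠ Dm D τ)

theorem ne_of_cent {τ : G} (hc : ∀ l ∈ L, ∀ d ∈ D, cj l (cj τ d) = cj τ d) :
    Dm D 1 ≠ Dm D τ := by
  intro he
  obtain ⟨l, hl, d, hd, hdZ⟩ := h.moves
  have h1 : d ∈ Dm D τ := by
    rw [← he, mem_Dm, inv_one, cj_one]; exact hd
  rw [mem_Dm] at h1
  have h2 := hc l hl _ h1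
  rw [cj_cj_inv] at h2
  rw [h2] at hdZ
  exact hdZ (h.DZ hd)

theorem mate_D {τ τ' : G} (hτ : Mate A L V D τ) (hτ' : Mate A L V D τ') :
    Dm D τ = Dm D τ' := by
  by_contra hne
  have hsup : Data.RP A V (fun _ => True) ≤ Data.RP A V (fun t => Dm D t ≠ Dm D τ) ⊔
      Data.RP A V (fun t => Dm D t ≠ Dm D τ') := by
    rw [Data.RP, Subgroup.closure_le]
    rintro x ⟨t, ht, -, v, hv, rfl⟩
    by_cases h1 : Dm D t ≠ Dm D τ
    · exact (le_sup_left : Data.RP A V (fun t => Dm D t ≠ Dm D τ) ≤ _)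
        (Data.mem_RP ht h1 hv)
    · have h2 : Dm D t ≠ Dm D τ' := by
        push Not at h1
        rw [h1]; exact hne
      exact (le_sup_right : Data.RP A V (fun t => Dm D t ≠ Dm D τ') ≤ _)
        (Data.mem_RP ht h2 hv)
  have hle : ∀ P : G → Prop, Data.RP A V P ≤ Data.RP A V (fun _ => True) := by
    intro P
    rw [Data.RP, Subgroup.closure_le]
    rintro x ⟨t, ht, -, v, hv, rfl⟩
    exact Data.mem_RP ht trivial hv
  have heq : Data.RP A V (fun _ => True) = Data.RP A V (fun t => Dm D t ≠ Dm D τ) ⊔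
      Data.RP A V (fun t => Dm D t ≠ Dm D τ') :=
    le_antisymm hsup (sup_le (hle _) (hle _))
  apply h.not_full
  intro l hl r hr
  have hcl : Data.RP A V (fun _ => True) ≤
      (Data.RP A V (fun _ => True)).comap (MulAut.conj l).toMonoidHom := by
    nth_rewrite 1 [heq]
    apply sup_le
    · intro y hy
      have := hle _ (hτ.norm l hl y hy)
      simpa using this
    · intro y hy
      have := hle _ (hτ'.norm l hl y hy)
      simpa using this
  have := hcl hr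
  simpa using this

section

variable {n : ℕ} (hc : ∀ m < n, ∀ w ∈ W A L m, Com V w)

include hc

theorem active_mate [Finite G] (hn : 0 < n) {m : ℕ} (hmn : m + 1 = n) {w₁ l a : G}
    (hw₁ : w₁ ∈ W A L m) (hl : l ∈ L) (ha : a ∈ A) (hnc : ¬ Com V (w₁ * l * a)) {l₀ : G}
    (hl₀ : l₀ ∈ L) (hm : Mv D Z l₀) {t v : G} (ht : t ∈ A) (hv : v ∈ V)
    (hact : cj (w₁ * l * a)⁻¹ (cj l₀ (cj t v)) ∉ B) : Mate A L V D t ∧ Dm D w₁ = Dm D t := by
  have hw : w₁ * l * a ∈ W A L n := by rw [← hmn]; exact ⟨w₁, hw₁, l, hl, a, ha, rfl⟩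
  obtain ⟨hz1, hz2⟩ := h.active_cent hc hn hmn hw₁ hl ha hnc hl₀ hm ht hv hact
  refine ⟨⟨ht, hz2, ?_⟩, hz1⟩
  apply h.norm_core hc _ (h.ne_of_cent hz2) hw hnc hl₀ hm
  intro t' ht' hP v' hv'
  by_contra hact'
  obtain ⟨hz1', -⟩ := h.active_cent hc hn hmn hw₁ hl ha hnc hl₀ hm ht' hv' hact'
  exact hP (by rw [← hz1', hz1])

omit hc in
/-- the intersection of two opposite conjugates of `B` -/
theorem cap_Q {l b : G} (hl : l ∈ L) (hm : Mv D Z l) (hb : b ∈ B) (hb' : cj l⁻¹ b ∈ B) :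
    b ∈ Q := by
  by_contra hbQ
  obtain ⟨d, hd, hdZ⟩ := h.ti l hl hm b hb hbQ
  apply hdZ
  have e : l⁻¹ * b * l = cj l⁻¹ b := by simp [cj]
  rw [e, cj_eq_self.2 (h.BcZ _ hb' d (h.DZ hd))]
  exact h.DZ hd

/-- the two ends of a path both of whose maximal proper subpaths are critical -/
theorem sym_mate [Finite G] (hn : 0 < n) {m : ℕ} (hmn : m + 1 = n) {a' l' u l a : G}
    (ha' : a' ∈ A) (hl' : l' ∈ L) (hm' : Mv D Z l') (hu : u ∈ W A L m) (hl : l ∈ L)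
    (hm : Mv D Z l) (ha : a ∈ A) (hc1 : ¬ Com V (a' * l' * u)) (hc2 : ¬ Com V (u * l * a)) :
    Mate A L V D a'⁻¹ ∧ Dm D u = Dm D a'⁻¹ := by
  have hex : ∃ v ∈ V, cj (u * l * a)⁻¹ (cj l'⁻¹ (cj a'⁻¹ v)) ∉ B := by
    by_contra hcon
    push Not at hcon
    apply hc1
    have hw : a' * l' * u ∈ W A L n := by rw [← hmn]; exact W_cons hu hl' ha'
    apply Com.of_inv
    intro v hv x hx
    have h1 := h.memB hc le_rfl hw hx
    have h2 := hcon x hx
    have e : cj (u * l * a)⁻¹ (cj l'⁻¹ (cj a'⁻¹ x)) = cj a⁻¹ (cj l⁻¹ (cj (a' * l' * u)⁻¹ x)) := by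
      simp [cj, mul_assoc]
    rw [e] at h2
    have h3 := h.cjB_inv (A.inv_mem ha) h2
    exact (h.VcQ _ (h.cap_Q hl hm h1 h3) v hv).symm
  obtain ⟨v, hv, hact⟩ := hex
  exact h.active_mate hc hn hmn hu hl ha hc2 (L.inv_mem hl') (h.mvinv l' hl' hm')
    (A.inv_mem ha') hv hact

/-- left extension of a critical word -/
theorem extend [Finite G] {m : ℕ} (hmn : m + 1 = n) {w₁ l a : G}
    (hw₁ : w₁ ∈ W A L m) (hl : l ∈ L) (ha : a ∈ A) (hnc : ¬ Com V (w₁ * l * a)) {l₀ : G}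
    (hl₀ : l₀ ∈ L) (hm : Mv D Z l₀) : ∃ t ∈ A, ¬ Com V (t * l₀ * w₁) := by
  have hw : w₁ * l * a ∈ W A L n := by rw [← hmn]; exact ⟨w₁, hw₁, l, hl, a, ha, rfl⟩
  obtain ⟨t, ht, v, hv, hact⟩ := h.exists_active hc hw hnc (L.inv_mem hl₀) (h.mvinv _ hl₀ hm)
  have hcr := h.active_crit hc hmn hw₁ hl ha (L.inv_mem hl₀) ht hv hact
  refine ⟨t⁻¹, A.inv_mem ht, ?_⟩
  have e : t⁻¹ * l₀ * w₁ = (l₀⁻¹ * t)⁻¹ * w₁ := by simp
  rw [e]; exact hcr

/-- the other end -/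
theorem sym_mate' [Finite G] (hn : 0 < n) {m : ℕ} (hmn : m + 1 = n) {a' l' u l a : G}
    (ha' : a' ∈ A) (hl' : l' ∈ L) (hm' : Mv D Z l') (hu : u ∈ W A L m) (hl : l ∈ L)
    (hm : Mv D Z l) (ha : a ∈ A) (hc1 : ¬ Com V (a' * l' * u)) (hc2 : ¬ Com V (u * l * a)) :
    Mate A L V D a ∧ Dm D u⁻¹ = Dm D a := by
  have h1 : ¬ Com V (a⁻¹ * l⁻¹ * u⁻¹) := by
    intro hcom
    apply hc2
    apply Com.of_inv
    simpa [mul_assoc] using hcom
  have h2 : ¬ Com V (u⁻¹ * l'⁻¹ * a'⁻¹) := by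
    intro hcom
    apply hc1
    apply Com.of_inv
    simpa [mul_assoc] using hcom
  have := h.sym_mate hc hn hmn (A.inv_mem ha) (L.inv_mem hl) (h.mvinv _ hl hm) (W_inv hu)
    (L.inv_mem hl') (h.mvinv _ hl' hm') (A.inv_mem ha') h1 h2
  rwa [inv_inv] at this

/-- right extension of a critical word -/
theorem extend' [Finite G] {m : ℕ} (hmn : m + 1 = n) {w₁ l a : G}
    (hw₁ : w₁ ∈ W A L m) (hl : l ∈ L) (ha : a ∈ A) (hnc : ¬ Com V (a * l * w₁)) {l₀ : G}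
    (hl₀ : l₀ ∈ L) (hm : Mv D Z l₀) : ∃ t ∈ A, ¬ Com V (w₁ * l₀ * t) := by
  have h1 : ¬ Com V (w₁⁻¹ * l⁻¹ * a⁻¹) := by
    intro hcom
    apply hnc
    apply Com.of_inv
    simpa [mul_assoc] using hcom
  obtain ⟨t, ht, h2⟩ := h.extend hc hmn (W_inv hw₁) (L.inv_mem hl) (A.inv_mem ha) h1
    (L.inv_mem hl₀) (h.mvinv _ hl₀ hm)
  refine ⟨t⁻¹, A.inv_mem ht, fun hcom => h2 ?_⟩
  apply Com.of_inv
  simpa [mul_assoc] using hcom

end

end Dt

/-! ### Long paths -/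

theorem W_left {A L : Subgroup G} {n : ℕ} {w : G} (hw : w ∈ W A L (n + 1)) :
    ∃ a ∈ A, ∃ l ∈ L, ∃ w' ∈ W A L n, w = a * l * w' := by
  obtain ⟨w', hw', l, hl, a, ha, he⟩ := W_inv hw
  refine ⟨a⁻¹, A.inv_mem ha, l⁻¹, L.inv_mem hl, w'⁻¹, W_inv hw', ?_⟩
  have := congrArg (·⁻¹) he
  simpa [mul_assoc] using this

/-- the word with letters `s j, …, s (j + k)` -/
def wd (l : G) (s : ℕ → G) : ℕ → ℕ → G
  | j, 0 => s j
  | j, k + 1 => s j * l * wd l s (j + 1) k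

theorem wd_succ (l : G) (s : ℕ → G) (j k : ℕ) :
    wd l s j (k + 1) = wd l s j k * l * s (j + k + 1) := by
  induction k generalizing j with
  | zero => simp [wd]
  | succ k ih =>
    rw [wd, ih, wd]
    have : j + 1 + k + 1 = j + (k + 1) + 1 := by ring
    rw [this]
    simp only [mul_assoc]

theorem wd_mem {A L : Subgroup G} {l : G} (hl : l ∈ L) {s : ℕ → G} (hs : ∀ i, s i ∈ A)
    (j k : ℕ) : wd l s j k ∈ W A L k := by
  induction k generalizing j with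
  | zero => exact hs j
  | succ k ih => exact W_cons (ih (j + 1)) hl (hs j)

theorem wd_congr {l : G} {s s' : ℕ → G} {j k : ℕ} (h : ∀ i, j ≤ i → i ≤ j + k → s i = s' i) :
    wd l s j k = wd l s' j k := by
  induction k generalizing j with
  | zero => exact h j le_rfl (by omega)
  | succ k ih =>
    rw [wd, wd, h j le_rfl (by omega), ih (j := j + 1) (fun i h1 h2 => h i (by omega) (by omega))]

namespace Dt

variable (h : Dt A L B Q V Z D)

include h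

variable {n : ℕ} (hc : ∀ m < n, ∀ w ∈ W A L m, Com V w)

include hc

theorem exists_start [Finite G] {l : G} (hl : l ∈ L) (hm : Mv D Z l) {w : G}
    (hw : w ∈ W A L n) (hnc : ¬ Com V w) (k : ℕ) :
    ∀ j, k + j + 1 = n → ∃ u ∈ W A L j, ∃ s : ℕ → G, (∀ i, s i ∈ A) ∧
      ¬ Com V (u * l * wd l s 0 k) := by
  induction k with
  | zero =>
    intro j hj
    obtain rfl : n = j + 1 := by omega
    obtain ⟨a, ha, l', hl', w', hw', rfl⟩ := W_left hw
    obtain ⟨t, ht, h1⟩ := h.extend' hc rfl hw' hl' ha hnc hl hm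
    exact ⟨w', hw', fun _ => t, fun _ => ht, h1⟩
  | succ k ih =>
    intro j hj
    obtain ⟨u, hu, s, hs, h1⟩ := ih (j + 1) (by omega)
    obtain ⟨a, ha, l', hl', u', hu', rfl⟩ := W_left hu
    have h2 : u' * l * wd l s 0 k ∈ W A L (n - 1) := by
      have : ∀ k', u' * l * wd l s 0 k' ∈ W A L (j + k' + 1) := by
        intro k'
        induction k' with
        | zero => exact ⟨u', hu', l, hl, _, hs 0, rfl⟩
        | succ k' ih' =>
          refine ⟨u' * l * wd l s 0 k', ?_, l, hl, s (k' + 1), hs _, ?_⟩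
          · exact ih'
          · rw [wd_succ, Nat.zero_add]; simp only [mul_assoc]
      have := this k
      rwa [show n - 1 = j + k + 1 by omega]
    obtain ⟨t, ht, h3⟩ := h.extend' hc (show n - 1 + 1 = n by omega) h2 hl' ha
      (by simpa only [mul_assoc] using h1) hl hm
    refine ⟨u', hu', Function.update s (k + 1) t, ?_, ?_⟩
    · intro i
      by_cases hi : i = k + 1
      · subst hi; simpa using ht
      · rw [Function.update_of_ne hi]; exact hs i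
    · rw [wd_succ, Nat.zero_add, Function.update_self]
      have h4 : wd l (Function.update s (k + 1) t) 0 k = wd l s 0 k := by
        apply wd_congr
        intro i _ hi
        rw [Function.update_of_ne (by omega)]
      rw [h4]
      simpa only [mul_assoc] using h3

omit hc h in
theorem wd_shift (l : G) (s : ℕ → G) (j k : ℕ) :
    wd l (fun i => s (i + 1)) j k = wd l s (j + 1) k := by
  induction k generalizing j with
  | zero => rfl
  | succ k ih => rw [wd, wd, ih]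

theorem exists_window [Finite G] (hn : 0 < n) {l : G} (hl : l ∈ L) (hm : Mv D Z l) {w : G}
    (hw : w ∈ W A L n) (hnc : ¬ Com V w) :
    ∃ s : ℕ → G, (∀ i, s i ∈ A) ∧ ¬ Com V (wd l s 0 n) := by
  obtain ⟨u, hu, s, hs, h1⟩ := h.exists_start hc hl hm hw hnc (n - 1) 0 (by omega)
  refine ⟨fun i => Nat.casesOn i u s, ?_, ?_⟩
  · intro i
    cases i with
    | zero => exact hu
    | succ i => exact hs i
  · obtain ⟨m, rfl⟩ : ∃ m, n = m + 1 := ⟨n - 1, by omega⟩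
    rw [wd, ← wd_shift]
    exact h1

/-- long paths all of whose windows are critical -/
theorem exists_path [Finite G] (hn : 0 < n) {l : G} (hl : l ∈ L) (hm : Mv D Z l) {w : G}
    (hw : w ∈ W A L n) (hnc : ¬ Com V w) (N : ℕ) :
    ∃ s : ℕ → G, (∀ i, s i ∈ A) ∧ ∀ j ≤ N, ¬ Com V (wd l s j n) := by
  induction N with
  | zero =>
    obtain ⟨s, hs, h1⟩ := h.exists_window hc hn hl hm hw hnc
    exact ⟨s, hs, fun j hj => by obtain rfl : j = 0 := by omega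
                                 exact h1⟩
  | succ N ih =>
    obtain ⟨s, hs, h1⟩ := ih
    obtain ⟨m, rfl⟩ : ∃ m, n = m + 1 := ⟨n - 1, by omega⟩
    have h2 := h1 N le_rfl
    rw [wd] at h2
    obtain ⟨t, ht, h3⟩ := h.extend' hc rfl (wd_mem hl hs (N + 1) m) hl (hs N) h2 hl hm
    refine ⟨Function.update s (N + m + 2) t, ?_, ?_⟩
    · intro i
      by_cases hi : i = N + m + 2
      · subst hi; simpa using ht
      · rw [Function.update_of_ne hi]; exact hs i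
    · intro j hj
      rcases Nat.lt_or_ge N j with hj' | hj'
      · obtain rfl : j = N + 1 := by omega
        rw [wd_succ, show N + 1 + m + 1 = N + m + 2 by ring, Function.update_self]
        have h4 : wd l (Function.update s (N + m + 2) t) (N + 1) m = wd l s (N + 1) m := by
          apply wd_congr
          intro i _ hi
          rw [Function.update_of_ne (by omega)]
        rw [h4]; exact h3
      · have h4 : wd l (Function.update s (N + m + 2) t) j (m + 1) = wd l s j (m + 1) := by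
          apply wd_congr
          intro i _ hi
          rw [Function.update_of_ne (by omega)]
        rw [h4]; exact h1 j hj'

/-- `b ≥ 3` is impossible. -/
theorem not_two_le [Finite G] (hn : 2 ≤ n) {w : G} (hw : w ∈ W A L n) (hnc : ¬ Com V w) :
    False := by
  obtain ⟨l, hl, hm⟩ := h.moves
  have hn0 : 0 < n := by omega
  obtain ⟨s, hs, hwin⟩ := h.exists_path hc hn0 hl hm hw hnc (n + 2)
  obtain ⟨k, rfl⟩ : ∃ k, n = k + 2 := ⟨n - 2, by omega⟩
  -- facts about windows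
  have hfact : ∀ j, j + 1 ≤ k + 4 → (Mate A L V D (s j)⁻¹ ∧
      Dm D (wd l s (j + 1) (k + 1)) = Dm D (s j)⁻¹) ∧
      (Mate A L V D (s (j + k + 3)) ∧
      Dm D (wd l s (j + 1) (k + 1))⁻¹ = Dm D (s (j + k + 3))) := by
    intro j hj
    have h1 := hwin j (by omega)
    have h2 := hwin (j + 1) (by omega)
    rw [wd] at h1
    rw [wd_succ, show j + 1 + (k + 1) + 1 = j + k + 3 by ring] at h2
    exact ⟨h.sym_mate hc hn0 rfl (hs j) hl hm (wd_mem hl hs _ _) hl hm (hs _) h1 h2,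
      h.sym_mate' hc hn0 rfl (hs j) hl hm (wd_mem hl hs _ _) hl hm (hs _) h1 h2⟩
  -- `u = y * l * a`
  have h1 := (hfact 1 (by omega)).2
  have h2 := (hfact (k + 3) (by omega)).1.1
  have h3 : Dm D (wd l s 2 (k + 1))⁻¹ = Dm D (s (k + 3))⁻¹ := by
    rw [h1.2]
    exact h.mate_D h1.1 h2
  rw [wd_succ, show 2 + k + 1 = k + 3 by ring] at h3
  -- `y * l` normalises `D`
  have h4 : ∀ d ∈ D, cj (wd l s 2 k) (cj l d) ∈ D := by
    intro d hd
    have h5 : cj (s (k + 3))⁻¹ d ∈ Dm D (s (k + 3))⁻¹ := cj_mem_Dm hd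
    rw [← h3, mem_Dm, inv_inv] at h5
    have e : cj (wd l s 2 k * l * s (k + 3)) (cj (s (k + 3))⁻¹ d) =
        cj (wd l s 2 k) (cj l d) := by
      simp [cj, mul_assoc]
    rwa [e] at h5
  obtain ⟨d, hd, hdZ⟩ := hm
  apply hdZ
  have hwc := hwin 0 (by omega)
  have hw0 : wd l s 0 (k + 2) ∈ W A L (k + 2) := wd_mem hl hs 0 (k + 2)
  have hwc' : ¬ Com V (wd l s 0 (k + 2))⁻¹ := fun hcom => hwc hcom.of_inv
  apply h.crit_Z hc (W_inv hw0) hwc' (h.cjV hl (h.DV hd))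
  intro u hu
  -- the element `cj c (cj l d)` lies in the conjugate of `V` under a word of length one
  have h6 : cj (wd l s 0 (k + 2)) (cj l d) =
      cj (s 0 * l * s 1) (cj l (cj (wd l s 2 k) (cj l d))) := by
    rw [wd, wd]
    simp [cj, mul_assoc]
  have h7 : cj l (cj (wd l s 2 k) (cj l d)) ∈ V := h.cjV hl (h.DV (h4 d hd))
  have h8 := hc 1 (by omega) (s 0 * l * s 1) ⟨s 0, hs 0, l, hl, s 1, hs 1, rfl⟩ u hu _ h7
  rw [← h6] at h8
  have h9 := (cj_comm (g := (wd l s 0 (k + 2))⁻¹)).2 h8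
  rw [cj_inv_cj] at h9
  exact h9.symm

end Dt

end Cfsg.Agent.PushGen
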