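import Cfsg.Agent.PushGen.Blk
import Cfsg.Agent.Mrg.Omega.FFBr.Final
import Cfsg.Prelude.Def_Quasithin

/-!
# The theorem

`G` of even characteristic, `T ∈ Syl₂(G)`, `M₀, H ≥ T` with `O₂(M₀) ≠ 1 ≠ O₂(H)`, `T` in a unique
maximal subgroup of `H`, `R ∈ Syl₂(O²(H) R)` normal in `M₀`: some nontrivial subgroup of `R` is normal
in `⟨M₀, H⟩`.

(helper54, for S1823.)
-/

set_option autoImplicit false
set_option linter.unusedSectionVars false

namespace Cfsg.Agent.PushGen

open Subgroup Cfsg Cfsg.Agent.PLocal.ThompsonJ Cfsg.Agent.ZN.ChoiceBase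
open Cfsg.Agent.ZN (o2 zl zj jj bau zc)
open Cfsg.Agent.ZN.ChoiceSit
open Cfsg.Agent.Omega.SQ1.FFOne (mem_norm_of conj_mem_of_norm)
open Cfsg.Agent.Omega.SQ1.VOf (zl_norm conj_mem_zl)
open Cfsg.Agent.MinSimple.VModule (oddGen mem_oddGen oddGen_le le_normalizer_oddGen)
open Cfsg.Agent.MinSimple.MinParabolic (IsMinPar)
open Cfsg.Agent.MinSimple.PushUp (Com)

universe u

variable {G : Type u} [Group G]

theorem sylow_syl (T : Sylow 2 G) {X : Subgroup G} (h : (T : Subgroup G) ≤ X) :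
    Syl (T : Subgroup G) X :=
  ⟨h, T.isPGroup', fun _ _ hQ hTQ => T.is_maximal' hQ hTQ⟩

/-- `C_G(O₂(X)) ≤ O₂(X)` for `X` over a Sylow 2-subgroup with `O₂(X) ≠ 1`. -/
theorem cent_o2 [Finite G] (hE : IsOfEvenCharacteristic G) (T : Sylow 2 G) {X : Subgroup G}
    (hTX : (T : Subgroup G) ≤ X) (hne : o2 X ≠ ⊥) :
    centralizer (o2 X : Set G) ≤ o2 X := by
  set N := normalizer ((o2 X : Subgroup G) : Set G) with hN
  have hXN : X ≤ N := le_normalizer_o2 X
  have hTN : (T : Subgroup G) ≤ N := hTX.trans hXN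
  have h1 : IsOfCharacteristicTwo N := hE N ⟨o2 X, isPGroup_o2 X, hne, rfl⟩ ⟨T, hTN⟩
  have h2 : o2 N ≤ o2 X := by
    refine le_o2 (isPGroup_o2 N) ((o2_le_syl (sylow_syl T hTN)).trans hTX) ?_
    exact hXN.trans (le_normalizer_o2 N)
  intro x hx
  have hxN : x ∈ N := centralizer_le_normalizer _ hx
  have h3 : (⟨x, hxN⟩ : N) ∈ centralizer (pCore 2 N : Set N) := by
    rw [mem_centralizer_iff]
    intro y hy
    apply Subtype.ext
    exact mem_centralizer_iff.1 hx y (h2 ⟨y, hy, rfl⟩)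
  exact h2 ⟨⟨x, hxN⟩, h1 h3, rfl⟩

/-- `P = O²(P) T` -/
theorem oddGen_sup_syl [Finite G] {P S : Subgroup G} (hS : Syl S P) : oddGen P ⊔ S = P := by
  have : Fact (Nat.Prime 2) := ⟨Nat.prime_two⟩
  have hSyl := syl_not_dvd hS
  apply le_antisymm (sup_le (oddGen_le P) hS.1)
  have hN : ((oddGen P).subgroupOf P).Normal :=
    normal_subgroupOf_of_le_normalizer (le_normalizer_oddGen P)
  have h1 : IsPGroup 2 (P ⧸ (oddGen P).subgroupOf P) := by
    intro q
    obtain ⟨x, rfl⟩ := QuotientGroup.mk_surjective q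
    obtain ⟨a, m, hm, ha⟩ := Nat.exists_eq_pow_mul_and_not_dvd (orderOf_pos (x : G)).ne' 2 (by norm_num)
    refine ⟨a, ?_⟩
    rw [← QuotientGroup.mk_pow, QuotientGroup.eq_one_iff, mem_subgroupOf]
    refine mem_oddGen (P.pow_mem x.2 _) ?_
    have hm0 : 0 < m := Nat.pos_of_ne_zero (by rintro rfl; simp at hm)
    have h2 : orderOf ((x : G) ^ 2 ^ a) = m := by
      rw [orderOf_pow_of_dvd (by positivity) (ha ▸ Dvd.intro _ rfl), ha,
        Nat.mul_div_cancel_left _ (by positivity)]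
    rw [coe_pow, h2]
    exact Nat.not_even_iff_odd.1 fun h => hm h.two_dvd
  obtain ⟨k, hk⟩ := IsPGroup.iff_card.1 h1
  have h2 : (oddGen P ⊔ S).relIndex P ∣ 2 ^ k := by
    have h3 : (oddGen P ⊔ S).relIndex P ∣ (oddGen P).relIndex P :=
      relIndex_dvd_of_le_left _ le_sup_left
    have h4 : (oddGen P).relIndex P = 2 ^ k := by
      rw [← hk, relIndex, index_eq_card]
    rwa [h4] at h3
  obtain ⟨j, -, hj⟩ := (Nat.dvd_prime_pow Nat.prime_two).1 h2
  have h5 : (oddGen P ⊔ S).relIndex P ∣ S.relIndex P := relIndex_dvd_of_le_left _ le_sup_right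
  rw [hj] at h5
  rcases Nat.eq_zero_or_pos j with rfl | hj0
  · rw [pow_zero] at hj
    exact relIndex_eq_one.1 hj
  · exact absurd ((dvd_pow_self 2 hj0.ne').trans h5) hSyl

/-- the unique maximal subgroup -/
theorem exists_max [Finite G] {T H : Subgroup G}
    (hU : ∃! K : Subgroup ↥H, IsCoatom K ∧ T.subgroupOf H ≤ K) :
    ∃ M : Subgroup G, M < H ∧ ∀ Y : Subgroup G, T ≤ Y → Y < H → Y ≤ M := by
  obtain ⟨K, ⟨hK, hTK⟩, huniq⟩ := hU
  refine ⟨K.map H.subtype, ?_, fun Y hTY hYH => ?_⟩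
  · refine lt_of_le_of_ne (Subgroup.map_subtype_le K) fun h => hK.1 ?_
    rw [eq_top_iff]
    intro x _
    have hx : (x : G) ∈ K.map H.subtype := by rw [h]; exact x.2
    obtain ⟨y, hy, hyx⟩ := hx
    have : y = x := Subtype.ext hyx
    rwa [← this]
  · have hne : Y.subgroupOf H ≠ ⊤ := by
      intro h
      rw [subgroupOf_eq_top] at h
      exact hYH.not_ge h
    obtain ⟨K', hK', hYK'⟩ := (eq_top_or_exists_le_coatom (Y.subgroupOf H)).resolve_left hne
    have h1 : K' = K := huniq K' ⟨hK', le_trans (fun x hx => hTY hx) hYK'⟩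
    rw [h1] at hYK'
    intro y hy
    exact ⟨⟨y, hYH.le hy⟩, hYK' hy, rfl⟩

section

variable [Finite G] {T H R : Subgroup G}

/-- `X = O²(H) R` is normal in `H`. -/
theorem norm_X (hT : Syl T H) (hTR : T ≤ normalizer (R : Set G)) :
    H ≤ normalizer ((oddGen H ⊔ R : Subgroup G) : Set G) := by
  rw [← oddGen_sup_syl hT]
  have e : oddGen (oddGen H ⊔ T) = oddGen H := by rw [oddGen_sup_syl hT]
  rw [e]
  refine sup_le (le_sup_left.trans le_normalizer) fun t ht => mem_normalizer_of_cj_le ?_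
  rw [cj, Subgroup.map_sup]
  refine sup_le_sup ?_ ?_
  · rintro _ ⟨x, hx, rfl⟩
    exact conj_mem_of_norm (le_normalizer_oddGen H (hT.1 ht)) hx
  · rintro _ ⟨x, hx, rfl⟩
    exact conj_mem_of_norm (hTR ht) hx

/-- a normal subgroup `X` of `H` is of characteristic two -/
theorem cent_X {X : Subgroup G} (hXH : X ≤ H) (hXn : H ≤ normalizer (X : Set G))
    (hc : centralizer (o2 H : Set G) ≤ o2 H) : X ⊓ centralizer (o2 X : Set G) ≤ o2 X := by
  have hXo : H ≤ normalizer ((o2 X : Subgroup G) : Set G) :=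
    hXn.trans (normalizer_le_of_cj (F := fun K => o2 K) pCore_cj X)
  have key : ∀ c ∈ X, ∀ q ∈ o2 H, c * q * c⁻¹ * q⁻¹ ∈ o2 X := by
    intro c hc q hq
    have h1 : o2 H ⊓ X ≤ o2 X := by
      refine le_o2 ((isPGroup_o2 H).to_le inf_le_left) inf_le_right fun x hx => mem_norm_of ?_
      rintro y ⟨hy, hyX⟩
      exact ⟨conj_mem_of_norm (le_normalizer_o2 H (hXH hx)) hy,
        X.mul_mem (X.mul_mem hx hyX) (X.inv_mem hx)⟩
    apply h1
    refine ⟨(o2 H).mul_mem (conj_mem_of_norm (le_normalizer_o2 H (hXH hc)) hq) ((o2 H).inv_mem hq), ?_⟩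
    have h2 := conj_mem_of_norm (hXn (o2_le H hq)) (inv_mem hc)
    have e : c * q * c⁻¹ * q⁻¹ = c * (q * c⁻¹ * q⁻¹) := by group
    rw [e]
    exact mul_mem hc h2
  refine le_o2 ?_ inf_le_left ?_
  · apply isTwo_of_odd
    rintro g ⟨hgX, hgc⟩ hodd
    have hgH : g ∈ o2 H := by
      apply hc
      rw [mem_centralizer_iff]
      intro q hq
      obtain ⟨y, hy⟩ : ∃ y, y = g * q * g⁻¹ * q⁻¹ := ⟨_, rfl⟩
      have hyX : y ∈ o2 X := by rw [hy]; exact key g hgX q hq
      have hgy : y * g = g * y := mem_centralizer_iff.1 hgc y hyX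
      have hgq : g * q * g⁻¹ = y * q := by rw [hy]; group
      have hpow : ∀ n : ℕ, g ^ n * q * (g ^ n)⁻¹ = y ^ n * q := by
        intro n
        induction n with
        | zero => simp
        | succ n ih =>
          have e : g ^ (n + 1) * q * (g ^ (n + 1))⁻¹ = g * (g ^ n * q * (g ^ n)⁻¹) * g⁻¹ := by
            rw [pow_succ']; group
          have hc1 : g * y ^ n = y ^ n * g :=
            ((show Commute y g from hgy).pow_left n).symm.eq
          rw [e, ih]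
          calc g * (y ^ n * q) * g⁻¹ = (g * y ^ n) * q * g⁻¹ := by group
            _ = y ^ n * (g * q * g⁻¹) := by rw [hc1]; group
            _ = y ^ (n + 1) * q := by rw [hgq, pow_succ]; group
      have h1 := hpow (orderOf g)
      rw [pow_orderOf_eq_one, one_mul, inv_one, mul_one] at h1
      have h2 : y ^ orderOf g = 1 := by
        have := congrArg (· * q⁻¹) h1
        simpa using this.symm
      have h3 := odd_eq_one (isPGroup_o2 X) hyX hodd h2
      rw [h3, one_mul] at hgq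
      calc q * g = (g * q * g⁻¹) * g := by rw [hgq]
        _ = g * q := by group
    exact odd_eq_one (isPGroup_o2 H) hgH hodd (pow_orderOf_eq_one g)
  · intro x hx
    refine mem_norm_of ?_
    rintro y ⟨hy, hyc⟩
    refine ⟨X.mul_mem (X.mul_mem hx hy) (X.inv_mem hx), mem_centralizer_iff.2 fun w hw => ?_⟩
    have hw' : x⁻¹ * w * x ∈ o2 X := by
      have := conj_mem_of_norm (le_normalizer_o2 X (inv_mem hx)) hw
      rwa [inv_inv] at this
    have h1 := mem_centralizer_iff.1 hyc _ hw'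
    calc w * (x * y * x⁻¹) = x * ((x⁻¹ * w * x) * y) * x⁻¹ := by group
      _ = x * (y * (x⁻¹ * w * x)) * x⁻¹ := by rw [h1]
      _ = _ := by group

end

/-- **The theorem.** -/
theorem main [Finite G] (hE : IsOfEvenCharacteristic G) (T : Sylow 2 G) {M₀ H R : Subgroup G}
    (hTM : (T : Subgroup G) ≤ M₀) (hTH : (T : Subgroup G) ≤ H) (hH : o2 H ≠ ⊥)
    (hU : ∃ M : Subgroup G, M < H ∧ ∀ Y : Subgroup G, (T : Subgroup G) ≤ Y → Y < H → Y ≤ M)
    (hR : R ≠ ⊥) (hRT : R ≤ (T : Subgroup G)) (hRS : Syl R (oddGen H ⊔ R))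
    (hRM : M₀ ≤ normalizer (R : Set G)) :
    ∃ R₀ : Subgroup G, R₀ ≠ ⊥ ∧ R₀ ≤ R ∧ M₀ ⊔ H ≤ normalizer (R₀ : Set G) := by
  by_contra hcon
  push Not at hcon
  have hcore : ∀ K : Subgroup G, K ≤ R → M₀ ≤ normalizer (K : Set G) →
      H ≤ normalizer (K : Set G) → K = ⊥ := by
    intro K hK h1 h2
    by_contra hne
    exact hcon K hne hK (sup_le h1 h2)
  have hTR : (T : Subgroup G) ≤ normalizer (R : Set G) := hTM.trans hRM
  have hTsyl := sylow_syl T hTH
  set X := oddGen H ⊔ R with hX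
  have hRX : R ≤ X := le_sup_right
  have hXH : X ≤ H := sup_le (oddGen_le H) (hRT.trans hTH)
  have hXn : H ≤ normalizer (X : Set G) := norm_X hTsyl hTR
  have hXo : H ≤ normalizer ((o2 X : Subgroup G) : Set G) :=
    hXn.trans (normalizer_le_of_cj (F := fun K => o2 K) pCore_cj X)
  have hcX : X ⊓ centralizer (o2 X : Set G) ≤ o2 X := cent_X hXH hXn (cent_o2 hE T hTH hH)
  have hoR : o2 X ≤ R := o2_le_syl hRS
  obtain ⟨M, hMH, hM⟩ := hU
  have hTneH : (T : Subgroup G) ≤ M := by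
    refine hM _ le_rfl (lt_of_le_of_ne hTH fun h => ?_)
    -- `H` is a 2-group
    exact hR (hcore R le_rfl hRM (by rw [← h]; exact hTR))
  have hXM : ¬ X ≤ M := by
    intro h
    apply hMH.not_ge
    rw [← oddGen_sup_syl hTsyl]
    exact sup_le (le_sup_left.trans h) hTneH
  -- the choice of `P`
  obtain ⟨P, ⟨hRP, hPM⟩, hPX, hPmin⟩ := Cfsg.Agent.Omega.SQ1.Bau.exists_min
    (fun P : Subgroup G => R ≤ P ∧ ¬ P ≤ M) (X := X) ⟨hRX, hXM⟩
  have hPH : P ≤ H := hPX.trans hXH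
  have hmin : ∀ Y : Subgroup G, R ≤ Y → Y < P → Y ≤ M := by
    intro Y hRY hYP
    by_contra h
    exact hYP.not_ge (hPmin Y ⟨hRY, h⟩ hYP.le)
  have hPT : H ≤ P ⊔ (T : Subgroup G) := by
    by_contra h
    apply hPM
    refine le_sup_left.trans (hM (P ⊔ (T : Subgroup G)) le_sup_right ?_)
    exact lt_of_le_of_ne (sup_le hPH hTH) fun e => h e.ge
  have hchar : ∀ K : Subgroup G, K ≤ R → normalizer (R : Set G) ≤ normalizer (K : Set G) →
      P ≤ normalizer (K : Set G) → K = ⊥ := by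
    intro K hK h1 h2
    exact hcore K hK (hRM.trans h1) (hPT.trans (sup_le h2 (hTR.trans h1)))
  have hPo : o2 X ≤ o2 P := le_o2 (isPGroup_o2 X) (hoR.trans hRP) (hPH.trans hXo)
  have c : Cf R P := {
    syl := ⟨hRP, hRS.2.1, fun Q hQ h2 h => hRS.2.2 Q (hQ.trans hPX) h2 h⟩
    mp := {
      le := hRP
      not_le := fun h => hR (hchar R le_rfl le_rfl h)
      exists_max := ⟨P ⊓ M, lt_of_le_of_ne inf_le_left fun h => hPM (inf_eq_left.1 h),
        fun K hRK hKP => le_inf hKP.le (hmin K hRK hKP)⟩ }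
    sc := by
      rintro x ⟨hxP, hxc⟩
      exact hPo (hcX ⟨hPX hxP, centralizer_le (fun y hy => hPo hy) hxc⟩)
    ne := hR
    char := hchar }
  obtain ⟨L, Q, V, D, hdt, hex, hV⟩ := c.exists_dt Cfsg.Agent.Omega.FFBr.ffthm
  -- `⟨Ω₁Z(R)^H⟩` is abelian
  have hzX : zl R H ≤ o2 X ⊓ centralizer (o2 X : Set G) := by
    refine Cfsg.Agent.Omega.SQ1.VOf.zl_le fun g hg z hz => ?_
    have hz' := mem_zc.1 hz
    have hzc : z ∈ centralizer (o2 X : Set G) :=
      mem_centralizer_iff.2 fun y hy => hz'.2.2 y (hoR hy)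
    have hzo : z ∈ o2 X := hcX ⟨hRX hz'.1, hzc⟩
    refine ⟨conj_mem_of_norm (hXo hg) hzo, mem_centralizer_iff.2 fun w hw => ?_⟩
    have hw' : g⁻¹ * w * g ∈ o2 X := by
      have := conj_mem_of_norm (hXo (inv_mem hg)) hw
      rwa [inv_inv] at this
    have h1 := mem_centralizer_iff.1 hzc _ hw'
    calc w * (g * z * g⁻¹) = g * ((g⁻¹ * w * g) * z) * g⁻¹ := by group
      _ = g * (z * (g⁻¹ * w * g)) * g⁻¹ := by rw [h1]
      _ = _ := by group
  have hzab : ∀ x ∈ zl R H, ∀ y ∈ zl R H, x * y = y * x := fun x hx y hy =>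
    mem_centralizer_iff.1 (hzX hy).2 x (hzX hx).1
  have hzP : zl R P ≤ zl R H :=
    Cfsg.Agent.Omega.SQ1.VOf.zl_le fun g hg z hz => conj_mem_zl (hPH hg) hz
  refine hdt.kill hex hTR T.isPGroup' ((bau_le R).trans hRT) (syl_not_dvd (sylow_syl T hTR)) ?_ ?_
  · intro t ht v hv u hu
    obtain ⟨z, hz, n, hn, hvn⟩ := hV v hv
    obtain ⟨z', hz', n', hn', hun⟩ := hV u hu
    have hvB : v ∈ bau R := hdt.VB hv
    have huB : Cfsg.Agent.MinSimple.PushUp.cj t u ∈ bau R := hdt.cjB (hTR ht) (hdt.VB hu)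
    have hzt : t * z' * t⁻¹ ∈ zj R := hdt.cjZ (hTR ht) hz'
    have hnt : t * n' * t⁻¹ ∈ zl R H := zl_norm t (hTH ht) n' (hzP hn')
    have e : Cfsg.Agent.MinSimple.PushUp.cj t u = (t * z' * t⁻¹) * (t * n' * t⁻¹) := by
      rw [hun]
      show t * (z' * n') * t⁻¹ = _
      group
    have hntB : t * n' * t⁻¹ ∈ bau R := by
      have h1 := mul_mem (inv_mem (hdt.VB (hdt.ZV hzt))) huB
      rw [e, inv_mul_cancel_left] at h1
      exact h1
    have c1 : Commute v (t * z' * t⁻¹) := hdt.BcZ v hvB _ hzt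
    have c2 : Commute z (t * n' * t⁻¹) := (hdt.BcZ _ hntB z hz).symm
    have c3 : Commute n (t * n' * t⁻¹) := hzab n (hzP hn) _ hnt
    have c4 : Commute v (t * n' * t⁻¹) := by rw [hvn]; exact c2.mul_left c3
    rw [e]
    exact (c1.mul_right c4).eq
  · intro E hE1 hEB hET
    have hTE : (T : Subgroup G) ≤ normalizer (E : Set G) := fun t ht => mem_norm_of (hET t ht)
    have hE2 : IsPGroup 2 E := T.isPGroup'.to_le (hEB.trans ((bau_le R).trans hRT))
    have hEo : E ≤ o2 (normalizer (E : Set G)) := le_o2 hE2 le_normalizer le_rfl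
    refine ⟨o2 (normalizer (E : Set G)), o2_le_syl (sylow_syl T hTE), ?_, ?_⟩
    · intro g hg y hy
      exact conj_mem_of_norm (le_normalizer_o2 _ (mem_norm_of hg)) hy
    · intro g hg
      refine cent_o2 hE T hTE (fun h => hE1 ?_) (mem_centralizer_iff.2 fun y hy => (hg y hy).symm)
      rw [eq_bot_iff, ← h]
      exact hEo

end Cfsg.Agent.PushGen
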